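import Cfsg.Agent.H70.SplitExt

/-!
Element orders of the split extensions `V^k ⋊ G`, `G` a matrix group.
-/

set_option autoImplicit false

namespace Cfsg.Agent.H69.Psp4

open Matrix

/-- The numbers dividing a member of a list. -/
def divSet (B : List ℕ) : Set ℕ := {n | ∃ b ∈ B, n ∣ b}

theorem range_eq_divSet {G : Type*} [Group G] [Finite G] (B : List ℕ)
    (hup : ∀ g : G, ∃ b ∈ B, g ^ b = 1) (hlow : ∀ b ∈ B, ∃ g : G, b ∣ orderOf g) :
    Set.range (orderOf : G → ℕ) = divSet B := by
  ext n
  constructor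
  · rintro ⟨g, rfl⟩
    obtain ⟨b, hb, h⟩ := hup g
    exact ⟨b, hb, orderOf_dvd_of_pow_eq_one h⟩
  · rintro ⟨b, hb, hn⟩
    obtain ⟨g, hg⟩ := hlow b hb
    exact ⟨g ^ (orderOf g / n), orderOf_pow_orderOf_div (orderOf_pos g).ne' (hn.trans hg)⟩

theorem exists_large_spectrum {ι K : Type*} [Fintype ι] [DecidableEq ι] [Nonempty ι] [Field K]
    [Finite K] (p : ℕ) [hp : Fact p.Prime] [CharP K p] (G : Subgroup (GL ι K)) (B : List ℕ)
    (hup : ∀ g ∈ G, ∃ b ∈ B, (g : Matrix ι ι K) ^ b = 1 ∧
      ∑ i ∈ Finset.range b, (g : Matrix ι ι K) ^ i = 0)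
    (hlow : ∀ b ∈ B, ∃ g ∈ G, b ∣ orderOf g ∨ (b ∣ p * orderOf g ∧
      ∑ i ∈ Finset.range (orderOf g), (g : Matrix ι ι K) ^ i ≠ 0)) (N : ℕ) :
    ∃ (H : Type) (_ : Group H) (_ : Fintype H), N < Fintype.card H ∧
      Set.range (orderOf : H → ℕ) = divSet B := by
  classical
  let W := Multiplicative (Fin (N + 1) → ι → K)
  let φ : G →* MulAut W :=
    MonoidHom.mk' (fun g => AddEquiv.toMultiplicative
      { toFun := fun w j => (g : GL ι K).1 *ᵥ w j
        invFun := fun w j => (g : GL ι K)⁻¹.1 *ᵥ w j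
        left_inv := fun w => funext fun j => by
          simp only [mulVec_mulVec, Units.inv_mul, one_mulVec]
        right_inv := fun w => funext fun j => by
          simp only [mulVec_mulVec, Units.mul_inv, one_mulVec]
        map_add' := fun w w' => funext fun j => mulVec_add _ _ _ })
      (fun g h => MulEquiv.ext fun w => congrArg Multiplicative.ofAdd (funext fun j => by
        show ((g : GL ι K) * (h : GL ι K)).1 *ᵥ _ = (g : GL ι K).1 *ᵥ ((h : GL ι K).1 *ᵥ _)
        rw [mulVec_mulVec, Units.val_mul]))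
  let X := W ⋊[φ] G
  haveI : Finite (GL ι K) := inferInstance
  haveI : Finite X := Finite.of_equiv _ SemidirectProduct.equivProd.symm
  have hpow : ∀ (x : X) (n : ℕ), (x ^ n).right = x.right ^ n ∧
      (x ^ n).left.toAdd = fun j => (∑ i ∈ Finset.range n, ((x.right : GL ι K).1) ^ i) *ᵥ x.left.toAdd j := by
    intro x n
    induction n with
    | zero => exact ⟨rfl, funext fun j => by simp⟩
    | succ n ih =>
      refine ⟨by rw [pow_succ', SemidirectProduct.mul_right, ih.1, ← pow_succ'], funext fun j => ?_⟩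
      rw [pow_succ', SemidirectProduct.mul_left]
      show x.left.toAdd j + (x.right : GL ι K).1 *ᵥ (x ^ n).left.toAdd j = _
      rw [ih.2, mulVec_mulVec, Finset.mul_sum, Finset.sum_range_succ' (n := n), add_mulVec, pow_zero,
        one_mulVec, add_comm]
      simp only [pow_succ']
  have hrange : Set.range (orderOf : X → ℕ) = divSet B := by
    refine range_eq_divSet B (fun x => ?_) fun b hb => ?_
    · obtain ⟨b, hb, h1, h2⟩ := hup x.right x.right.2
      refine ⟨b, hb, SemidirectProduct.ext ?_ ?_⟩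
      · apply Multiplicative.toAdd.injective
        rw [(hpow x b).2]
        funext j
        show _ = (0 : ι → K)
        rw [h2, zero_mulVec]
      · rw [(hpow x b).1]
        exact Subtype.ext (Units.ext (by simpa using h1))
    · obtain ⟨g, hg, h | ⟨h, hne⟩⟩ := hlow b hb
      · exact ⟨SemidirectProduct.inr ⟨g, hg⟩, by
          rwa [orderOf_injective _ SemidirectProduct.inr_injective, Subgroup.orderOf_mk]⟩
      obtain ⟨v, hv⟩ : ∃ v : ι → K, (∑ i ∈ Finset.range (orderOf g), (g : Matrix ι ι K) ^ i) *ᵥ v ≠ 0 := by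
        by_contra hall
        push Not at hall
        exact hne (Matrix.ext_of_mulVec_single fun i => by rw [hall, zero_mulVec])
      set x : X := ⟨Multiplicative.ofAdd (fun _ => v), ⟨g, hg⟩⟩
      refine ⟨x, h.trans ?_⟩
      set n := orderOf g
      have hn : n ∣ orderOf x := by
        have := orderOf_map_dvd (SemidirectProduct.rightHom : X →* G) x
        simpa [x, n] using this
      have hxn : x ^ n ≠ 1 := fun e => hv (by
        have := congrFun ((hpow x n).2) (0 : Fin (N + 1))
        rw [e] at this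
        exact this.symm)
      have hxpn : x ^ (p * n) = 1 := by
        rw [mul_comm, pow_mul]
        have hl : (x ^ n).right = 1 := by
          rw [(hpow x n).1]; exact Subtype.ext (pow_orderOf_eq_one g)
        refine SemidirectProduct.ext ?_ ?_
        · apply Multiplicative.toAdd.injective
          rw [(hpow (x ^ n) p).2, hl]
          funext j
          show _ = (0 : ι → K)
          rw [show ((1 : G) : GL ι K).1 = (1 : Matrix ι ι K) from rfl]
          simp [← Matrix.diagonal_natCast, CharP.cast_eq_zero]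
        · rw [(hpow (x ^ n) p).1, hl, one_pow]; rfl
      obtain ⟨c, hc⟩ := hn
      have hn0 : 0 < n := orderOf_pos g
      have hcp : c ∣ p := Nat.dvd_of_mul_dvd_mul_left hn0 (by
        rw [← hc, mul_comm n p]; exact orderOf_dvd_of_pow_eq_one hxpn)
      rcases (Nat.dvd_prime hp.out).1 hcp with rfl | rfl
      · exact absurd (by rw [← mul_one n, ← hc]; exact pow_orderOf_eq_one x) hxn
      · rw [hc, mul_comm]
  obtain ⟨H, hG, hF, ⟨e⟩⟩ := H70.exists_type0 X
  letI := hG
  letI := Fintype.ofFinite H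
  refine ⟨H, hG, Fintype.ofFinite H, ?_, ?_⟩
  · rw [← Nat.card_eq_fintype_card, Nat.card_congr e.toEquiv, SemidirectProduct.card]
    have h1 : N < Nat.card W := by
      show N < Nat.card (Fin (N + 1) → ι → K)
      rw [Nat.card_pi, Finset.prod_const, Finset.card_univ, Fintype.card_fin]
      calc N < 2 ^ (N + 1) := (Nat.lt_succ_self N).trans (Nat.lt_two_pow_self)
        _ ≤ Nat.card (ι → K) ^ (N + 1) := Nat.pow_le_pow_left Finite.one_lt_card _
    exact lt_of_lt_of_le h1 (Nat.le_mul_of_pos_right _ Nat.card_pos)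
  · rw [← hrange]
    ext n
    constructor
    · rintro ⟨x, rfl⟩; exact ⟨e x, e.orderOf_eq x⟩
    · rintro ⟨x, rfl⟩; exact ⟨e.symm x, e.symm.orderOf_eq x⟩

end Cfsg.Agent.H69.Psp4
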