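import Cfsg.Agent.H69.MaxOrder.Bound

/-!
The element orders of `PSp(4,q)` divide one of four (five when `p ≤ 3`) numbers.
-/

set_option autoImplicit false

namespace Cfsg.Agent.H69.Psp4

open Polynomial UniqueFactorizationMonoid Cfsg.Agent.H69.SpecEight Cfsg.Agent.H69.MaxOrder
open scoped Classical

/-- `gcd (2, q - 1)`. -/
def dd (p : ℕ) : ℕ := if p = 2 then 1 else 2

/-- The maximal element orders of `PSp(4,q)`, `q` a power of `p`. -/
def bnd (p q : ℕ) : List ℕ :=
  [(q ^ 2 + 1) / dd p, (q ^ 2 - 1) / dd p, p * (q + 1), p * (q - 1)] ++ if p ≤ 3 then [p ^ 2] else []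

theorem mem_bnd {p q b : ℕ} : b ∈ bnd p q ↔ b = (q ^ 2 + 1) / dd p ∨ b = (q ^ 2 - 1) / dd p ∨
    b = p * (q + 1) ∨ b = p * (q - 1) ∨ p ≤ 3 ∧ b = p ^ 2 := by
  unfold bnd
  split_ifs with h <;> simp [h, or_assoc]

section

variable {F : Type*} [Field F] (p : ℕ) [Fact p.Prime] [CharP F p]

include p in
theorem two_eq_zero_iff : (2 : F) = 0 ↔ p = 2 := by
  rw [show (2 : F) = ((2 : ℕ) : F) by norm_num, CharP.cast_eq_zero_iff F p,
    Nat.prime_dvd_prime_iff_eq Fact.out Nat.prime_two]

variable [Finite F]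

include p in
theorem card_parity : (p = 2 ∧ Even (Nat.card F)) ∨ (p ≠ 2 ∧ Odd (Nat.card F)) := by
  have hp : p.Prime := Fact.out
  cases nonempty_fintype F
  obtain ⟨k, -, hk⟩ := FiniteField.card F p
  rw [Nat.card_eq_fintype_card, hk]
  by_cases h : p = 2
  · exact Or.inl ⟨h, h ▸ (Nat.even_pow.2 ⟨even_two, k.ne_zero⟩)⟩
  · exact Or.inr ⟨h, (hp.odd_of_ne_two h).pow⟩

include p in
/-- Both `q + 1` and `q - 1` divide `(q ^ 2 - 1) / gcd (2, q - 1)`. -/
theorem dvd_minus : Nat.card F + 1 ∣ (Nat.card F ^ 2 - 1) / dd p ∧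
    Nat.card F - 1 ∣ (Nat.card F ^ 2 - 1) / dd p ∧ (p ≠ 2 → 2 ∣ (Nat.card F ^ 2 - 1) / dd p) := by
  set q := Nat.card F
  have e : q ^ 2 - 1 = (q + 1) * (q - 1) := by simpa using Nat.sq_sub_sq q 1
  rcases card_parity (F := F) p with ⟨h, -⟩ | ⟨h, ho⟩
  · rw [dd, if_pos h, Nat.div_one, e]
    exact ⟨dvd_mul_right _ _, dvd_mul_left _ _, fun h' => absurd h h'⟩
  · have h1 : 2 ∣ q - 1 := (Nat.Odd.sub_odd ho odd_one).two_dvd
    have h2 : 2 ∣ q + 1 := (ho.add_odd odd_one).two_dvd
    refine ⟨?_, ?_, fun _ => ?_⟩ <;> rw [dd, if_neg h, e]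
    · rw [Nat.mul_div_assoc _ h1]; exact dvd_mul_right _ _
    · rw [mul_comm, Nat.mul_div_assoc _ h2]; exact dvd_mul_right _ _
    · rw [Nat.mul_div_assoc _ h1]; exact h2.mul_right _

end

variable {F : Type*} [Field F] [Finite F] {ι : Type*} [Fintype ι] [DecidableEq ι]

theorem rcp_dvd {f : F[X]} (hf : Irreducible f) (h : ℕ) (ε : F) (hε : ε * ε = 1)
    (hd : f ∣ X ^ h - C ε) : rcp f ∣ X ^ h - C ε := by
  have hg : Irreducible f.mirror := irreducible_mirror hf
  have : Fact (Irreducible f.mirror) := ⟨hg⟩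
  set β := AdjoinRoot.root f.mirror
  have hdvd : ∀ s : F[X], aeval β s = 0 ↔ f.mirror ∣ s := fun s => by
    rw [AdjoinRoot.aeval_eq, AdjoinRoot.mk_eq_zero]
  by_contra hβ0
  refine hβ0 (((normalize_associated f.mirror).dvd).trans ((hdvd _).1 ?_))
  have hb0 : aeval β f.mirror = 0 := (hdvd _).2 dvd_rfl
  by_cases hβ : β = 0
  · exfalso
    rw [hβ, ← coeff_zero_eq_aeval_zero', map_eq_zero] at hb0
    have h0 : f.natTrailingDegree ≠ 0 := by
      rw [← mirror_natTrailingDegree, Ne, natTrailingDegree_eq_zero]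
      push Not
      exact ⟨hg.ne_zero, hb0⟩
    have hX : (X : F[X]) ∣ f := X_dvd_iff.2 (by
      by_contra hc
      exact h0 (natTrailingDegree_eq_zero.2 (Or.inr hc)))
    have h1 := X_dvd_iff.1 (hX.trans hd)
    rcases Nat.eq_zero_or_pos h with rfl | hpos
    · rw [pow_zero, coeff_sub, coeff_one_zero, coeff_C_zero, sub_eq_zero] at h1
      have hz : rcp f ∣ X ^ 0 - C ε := by rw [pow_zero, ← h1, C_1, sub_self]; exact dvd_zero _
      exact hβ0 hz
    · rw [coeff_sub, coeff_X_pow, if_neg hpos.ne, coeff_C_zero, zero_sub, neg_eq_zero] at h1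
      rw [h1, mul_zero] at hε
      exact zero_ne_one hε
  have hf0 : aeval β⁻¹ f = 0 := by
    have := aeval_mirror_eq_zero (inv_mul_cancel₀ hβ) hb0
    rwa [mirror_mirror] at this
  obtain ⟨w, hw⟩ := hd
  have h1 : aeval β⁻¹ (X ^ h - C ε) = 0 := by rw [hw, map_mul, hf0, zero_mul]
  rw [map_sub, map_pow, aeval_X, aeval_C, sub_eq_zero, inv_pow] at h1
  rw [map_sub, map_pow, aeval_X, aeval_C, sub_eq_zero, ← inv_inv (β ^ h), h1, inv_eq_iff_eq_inv]
  refine (inv_eq_of_mul_eq_one_right ?_).symm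
  rw [← map_mul, hε, map_one]

theorem upper {A : Matrix ι ι F} (p : ℕ) [Fact p.Prime] [CharP F p] {N : ℕ} (hN : 0 < N)
    (hA : A ^ N = 1) (hinv : H55.InvClosed A) (hD : (minpoly F A).natDegree ≤ 4) :
    ∃ b ∈ bnd p (Nat.card F), A ^ b = 1 ∨ A ^ b = -1 := by
  have hpp : p.Prime := Fact.out
  set μ := minpoly F A with hμdef
  have hμ0 : μ ≠ 0 := minpoly.ne_zero (Matrix.isIntegral A)
  set q := Nat.card F with hq
  have hq2 : 2 ≤ q := Finite.one_lt_card
  have hpq : p ≤ q := by
    cases nonempty_fintype F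
    obtain ⟨k, -, hk⟩ := FiniteField.card F p
    rw [hq, Nat.card_eq_fintype_card, hk]
    exact Nat.le_self_pow k.ne_zero p
  set f1 : F[X] := X - 1 with hf1
  set f2 : F[X] := X + 1 with hf2
  set P : Finset F[X] := {f1, f2} with hP
  set s := fac A with hs
  set c := fun f => s.count f with hc
  set T := s.toFinset.filter (fun f => f ∉ P) with hT
  have hTs : ∀ f ∈ T, f ∈ s ∧ f ≠ f1 ∧ f ≠ f2 := fun f hf => by
    obtain ⟨h1, h2⟩ := Finset.mem_filter.1 hf
    simp only [hP, Finset.mem_insert, Finset.mem_singleton, not_or] at h2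
    exact ⟨Multiset.mem_toFinset.1 h1, h2⟩
  have hrcpT : ∀ f ∈ T, rcp f ∈ T := fun f hf => by
    obtain ⟨hfs, h1, h2⟩ := hTs f hf
    refine Finset.mem_filter.2 ⟨Multiset.mem_toFinset.2 ?_, ?_⟩
    · rw [hs, ← map_rcp_fac hN hA hinv]; exact Multiset.mem_map_of_mem _ hfs
    · simp only [hP, Finset.mem_insert, Finset.mem_singleton, not_or]
      refine ⟨fun h => h1 ?_, fun h => h2 ?_⟩
      · rw [← rcp_rcp (mem_fac hfs).2.1, h, hf1, rcp_X_sub_one]
      · rw [← rcp_rcp (mem_fac hfs).2.1, h, hf2, rcp_X_add_one]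
  have hrr : ∀ f ∈ T, rcp (rcp f) = f := fun f hf => rcp_rcp (mem_fac (hTs f hf).1).2.1
  obtain ⟨R, hRT, hcov, hRuniq⟩ := exists_reps T rcp hrr hrcpT
  have hcr : ∀ f ∈ T, c (rcp f) = c f := fun f hf => count_rcp hN hA hinv (hTs f hf).1
  have data : ∀ f ∈ T, 1 ≤ halfDeg f ∧ 1 ≤ c f ∧ f ∣ X ^ expo f - 1 ∧
      ∑ g ∈ orbit f, c g * g.natDegree = 2 * (halfDeg f * c f) := by
    intro f hf
    obtain ⟨hfs, h1, h2⟩ := hTs f hf
    obtain ⟨e, he, ⟨hs', hd, hdiv⟩ | ⟨hs', hd, hdiv⟩⟩ := dvd_torus' hN hA hfs h1 h2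
    · have hh : halfDeg f = e := by rw [halfDeg, if_pos hs', hd]; omega
      refine ⟨by omega, Multiset.one_le_count_iff_mem.2 hfs,
        by rw [expo, if_pos hs', hh]; exact hdiv, ?_⟩
      rw [orbit, hs', Finset.pair_eq_singleton, Finset.sum_singleton, hd, hh]; ring
    · have hh : halfDeg f = e := by rw [halfDeg, if_neg hs', hd]
      refine ⟨by omega, Multiset.one_le_count_iff_mem.2 hfs,
        by rw [expo, if_neg hs', hh]; exact hdiv, ?_⟩
      rw [orbit, Finset.sum_pair (Ne.symm hs'), natDegree_rcp, hd, hh]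
      show c f * e + c (rcp f) * e = 2 * (e * c f)
      rw [hcr f hf]; ring
  have horbT : ∀ f ∈ R, orbit f ⊆ T := fun f hf g hg => by
    simp only [orbit, Finset.mem_insert, Finset.mem_singleton] at hg
    rcases hg with rfl | rfl
    exacts [hRT hf, hrcpT f (hRT hf)]
  have hdisj : (R : Set F[X]).PairwiseDisjoint orbit := by
    intro f hf g hg hfg
    rw [Function.onFun, Finset.disjoint_left]
    intro a ha hb
    simp only [orbit, Finset.mem_insert, Finset.mem_singleton] at ha hb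
    rcases ha with rfl | rfl <;> rcases hb with h | h
    · exact hfg h
    · exact hfg (by rw [h]; exact hRuniq g hg (h ▸ hf))
    · refine hfg ?_
      rw [← h]; exact (hRuniq f hf (h ▸ hg)).symm
    · exact hfg (by rw [← hrr f (hRT hf), h, hrr g (hRT hg)])
  -- degree bookkeeping
  have hdeg : 2 * ∑ f ∈ R, halfDeg f * c f + ∑ g ∈ P, c g ≤ μ.natDegree := by
    have hsum : μ.natDegree = (s.map natDegree).sum := by
      rw [hs, fac, ← natDegree_eq_of_degree_eq (degree_eq_degree_of_associated (prod_normalizedFactors hμ0)),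
        natDegree_multiset_prod _ fun h => not_irreducible_zero (irreducible_of_normalized_factor _ h)]
    have hP1 : ∑ g ∈ P, c g = ∑ g ∈ P, c g * g.natDegree := Finset.sum_congr rfl fun g hg => by
      simp only [hP, Finset.mem_insert, Finset.mem_singleton] at hg
      rcases hg with rfl | rfl
      · rw [hf1, ← C_1, natDegree_X_sub_C, mul_one]
      · rw [hf2, ← C_1, natDegree_X_add_C, mul_one]
    have hdP : Disjoint (R.biUnion orbit) P := by
      rw [Finset.disjoint_left]
      intro g hg hgP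
      obtain ⟨f, hf, hgf⟩ := Finset.mem_biUnion.1 hg
      exact (Finset.mem_filter.1 (horbT f hf hgf)).2 hgP
    rw [Finset.mul_sum, hsum, Finset.sum_multiset_map_count, hP1,
      ← Finset.sum_congr rfl (fun f hf => (data f (hRT hf)).2.2.2), ← Finset.sum_biUnion hdisj,
      ← Finset.sum_union hdP]
    calc ∑ g ∈ R.biUnion orbit ∪ P, c g * g.natDegree
        = ∑ g ∈ (R.biUnion orbit ∪ P) ∩ s.toFinset, c g * g.natDegree := by
          refine (Finset.sum_subset Finset.inter_subset_left fun g hg hg' => ?_).symm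
          rw [show c g = 0 from Multiset.count_eq_zero.2
            (fun h => hg' (Finset.mem_inter.2 ⟨hg, Multiset.mem_toFinset.2 h⟩)), zero_mul]
      _ ≤ ∑ g ∈ s.toFinset, s.count g • g.natDegree :=
          Finset.sum_le_sum_of_subset Finset.inter_subset_right
  have hann : ∀ (G : F[X]) (K : ℕ), G ≠ 0 → (∀ g ∈ s, g ∣ G ∧ c g ≤ p ^ K) →
      aeval A (G ^ p ^ K) = 0 := by
    intro G K hG hg
    have hdvd : μ ∣ G ^ p ^ K := by
      rw [dvd_iff_normalizedFactors_le_normalizedFactors hμ0 (pow_ne_zero _ hG),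
        normalizedFactors_pow, Multiset.le_iff_count]
      intro g
      rw [Multiset.count_nsmul]
      show c g ≤ _
      by_cases hgs : g ∈ s
      · refine (hg g hgs).2.trans (Nat.le_mul_of_pos_right _ (Multiset.count_pos.2 ?_))
        exact (mem_normalizedFactors_iff' hG).2 ⟨(mem_fac hgs).1, (mem_fac hgs).2.1, (hg g hgs).1⟩
      · rw [show c g = 0 from Multiset.count_eq_zero.2 hgs]; exact Nat.zero_le _
    obtain ⟨w, hw⟩ := hdvd
    rw [hw, map_mul, minpoly.aeval, zero_mul]
  have hp1 : ∀ (L K : ℕ), 0 < L → (∀ g ∈ s, g ∣ X ^ L - 1 ∧ c g ≤ p ^ K) → A ^ (p ^ K * L) = 1 := by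
    intro L K hL hg
    have h := hann (X ^ L - 1) K (by rw [← C_1]; exact X_pow_sub_C_ne_zero hL 1) hg
    rw [sub_pow_char_pow, one_pow, ← pow_mul, map_sub, map_pow, aeval_X, map_one, sub_eq_zero] at h
    rwa [mul_comm]

  have hcP : ∀ g ∈ P, c g ≤ ∑ g ∈ P, c g := fun g hg =>
    Finset.single_le_sum (fun g _ => Nat.zero_le (c g)) hg
  have hcR : ∀ f ∈ R, halfDeg f * c f ≤ ∑ f ∈ R, halfDeg f * c f := fun f hf =>
    Finset.single_le_sum (fun f _ => Nat.zero_le (halfDeg f * c f)) hf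
  have hcover : ∀ g ∈ s, g ∈ P ∨ ∃ r ∈ R, c r = c g ∧ expo r = expo g ∧ g ∈ orbit r ∧
      g ∣ X ^ expo g - 1 := by
    intro g hg
    by_cases hgP : g ∈ P
    · exact Or.inl hgP
    have hgT : g ∈ T := Finset.mem_filter.2 ⟨Multiset.mem_toFinset.2 hg, hgP⟩
    rcases hcov g hgT with h | h
    · exact Or.inr ⟨g, h, rfl, rfl, by simp [orbit], (data g hgT).2.2.1⟩
    · refine Or.inr ⟨rcp g, h, hcr g hgT, (orbit_eq (mem_fac hg).2.1 (g := rcp g) (by simp [orbit])).2,
        ?_, (data g hgT).2.2.1⟩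
      simp [orbit, hrr g hgT]
  -- `X ± 1` divide `X ^ L - 1` for even `L`
  have hPdvd : ∀ L : ℕ, (p ≠ 2 → 2 ∣ L) → ∀ g ∈ P, g ∣ X ^ L - 1 := by
    intro L hL g hg
    simp only [hP, Finset.mem_insert, Finset.mem_singleton] at hg
    by_cases hp2 : p = 2
    · have h2 : (2 : F) = 0 := (two_eq_zero_iff p).2 hp2
      have h12 : f2 = f1 := by
        rw [hf1, hf2, sub_eq_add_neg, ← C_1, ← C_neg]
        congr 2
        linear_combination h2
      have : g = X - 1 := by rcases hg with rfl | rfl <;> first | exact hf1 | rw [h12]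
      rw [this]; exact dvd_X_pow_sub_one (a := 1) (by rw [pow_one]) (one_dvd _)
    · rcases hg with rfl | rfl
      · rw [hf1]; exact dvd_X_pow_sub_one (a := 1) (by rw [pow_one]) (one_dvd _)
      · exact dvd_X_pow_sub_one (a := 2) ⟨X - 1, by rw [hf2]; ring⟩ (hL hp2)
  rcases Finset.eq_empty_or_nonempty R with hR | ⟨f, hf⟩
  · have hsP : ∀ g ∈ s, g ∈ P := fun g hg => (hcover g hg).resolve_right (by
      rintro ⟨r, hr, -⟩; simp [hR] at hr)
    have hc4 : ∀ g ∈ s, c g ≤ 4 := fun g hg => (hcP g (hsP g hg)).trans (by omega)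
    by_cases hboth : f1 ∈ s ∧ f2 ∈ s ∧ f1 ≠ f2
    · obtain ⟨h1, h2, h12⟩ := hboth
      have hp2 : p ≠ 2 := by
        intro hp2
        refine h12 ?_
        rw [hf1, hf2, sub_eq_add_neg, ← C_1, ← C_neg]
        congr 2
        linear_combination -((two_eq_zero_iff (F := F) p).2 hp2)
      have hc3 : ∀ g ∈ s, c g ≤ 3 := fun g hg => by
        have hC : ∑ g ∈ P, c g = c f1 + c f2 := Finset.sum_pair h12
        have a1 : 1 ≤ c f1 := Multiset.one_le_count_iff_mem.2 h1
        have a2 : 1 ≤ c f2 := Multiset.one_le_count_iff_mem.2 h2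
        have := hsP g hg
        simp only [hP, Finset.mem_insert, Finset.mem_singleton] at this
        rcases this with rfl | rfl <;> omega
      refine ⟨p * (q + 1), mem_bnd.2 (by simp), Or.inl ?_⟩
      have h := hp1 (q + 1) 1 (by omega) fun g hg => ⟨hPdvd _ (fun _ => ?_) g (hsP g hg),
        (hc3 g hg).trans (by rw [pow_one]; have := (Fact.out : p.Prime).two_le; omega)⟩
      · rwa [pow_one] at h
      · exact ((((card_parity (F := F) p).resolve_left fun h => hp2 h.1).2).add_odd odd_one).two_dvd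
    · obtain ⟨ε, hεd⟩ : ∃ G : F[X], (G = X - 1 ∨ G = X + 1) ∧ ∀ g ∈ s, g ∣ G := by
        by_cases h2 : f2 ∈ s
        · refine ⟨X + 1, Or.inr rfl, fun g hg => ?_⟩
          have := hsP g hg
          simp only [hP, Finset.mem_insert, Finset.mem_singleton] at this
          rcases this with rfl | rfl
          · rw [show f1 = f2 by by_contra hne; exact hboth ⟨hg, h2, hne⟩]
          · rw [hf2]
        · refine ⟨X - 1, Or.inl rfl, fun g hg => ?_⟩
          have := hsP g hg
          simp only [hP, Finset.mem_insert, Finset.mem_singleton] at this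
          rcases this with rfl | rfl
          · rw [hf1]
          · exact absurd hg h2
      obtain ⟨hε, hεs⟩ := hεd
      have hpow : ∀ K : ℕ, (∀ g ∈ s, c g ≤ p ^ K) → A ^ p ^ K = 1 ∨ A ^ p ^ K = -1 := by
        intro K hK
        rcases hε with rfl | rfl
        · have h := hann (X - 1) K (by rw [← C_1]; exact X_sub_C_ne_zero 1) fun g hg => ⟨hεs g hg, hK g hg⟩
          rw [sub_pow_char_pow, one_pow, map_sub, map_pow, aeval_X, map_one, sub_eq_zero] at h
          exact Or.inl h
        · have h := hann (X + 1) K monic_X_add_one.ne_zero fun g hg => ⟨hεs g hg, hK g hg⟩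
          rw [add_pow_char_pow, one_pow, map_add, map_pow, aeval_X, map_one, add_eq_zero_iff_eq_neg] at h
          exact Or.inr h
      by_cases hp3 : p ≤ 3
      · refine ⟨p ^ 2, mem_bnd.2 (by simp [hp3]), hpow 2 fun g hg => (hc4 g hg).trans ?_⟩
        have := Nat.pow_le_pow_left (Fact.out : p.Prime).two_le 2
        omega
      · refine ⟨p * (q + 1), mem_bnd.2 (by simp), ?_⟩
        rcases hpow 1 fun g hg => (hc4 g hg).trans (by rw [pow_one]; omega) with h | h <;>
          rw [pow_one] at h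
        · left; rw [pow_mul, h, one_pow]
        · left; rw [pow_mul, h]
          exact Even.neg_one_pow ((((card_parity (F := F) p).resolve_left fun h => by omega).2).add_odd odd_one)
  by_cases h2 : ∃ f ∈ R, 2 ≤ halfDeg f
  · obtain ⟨f, hf, hd⟩ := h2
    have hfT := hRT hf
    obtain ⟨-, hcf, hfd, -⟩ := data f hfT
    have h4 := hcR f hf
    have hd2 : halfDeg f = 2 ∧ c f = 1 := by
      have h5 : halfDeg f * c f ≤ 2 := by omega
      have := Nat.le_mul_of_pos_right (halfDeg f) hcf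
      refine ⟨by omega, ?_⟩
      have := Nat.mul_le_mul_right (c f) hd
      omega
    have hall : ∀ g ∈ s, g ∈ orbit f ∧ c g = 1 := by
      intro g hg
      have hg1 : 1 ≤ c g := Multiset.one_le_count_iff_mem.2 hg
      rcases hcover g hg with hgP | ⟨r, hr, hcr', -, hgo, -⟩
      · exfalso
        have := hcP g hgP
        rw [hd2.1, hd2.2] at h4
        omega
      · have hrf : r = f := by
          by_contra hne
          have h6 := Finset.add_sum_erase R (fun f => halfDeg f * c f) hf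
          have h7 : halfDeg r * c r ≤ ∑ x ∈ R.erase f, halfDeg x * c x :=
            Finset.single_le_sum (fun f _ => Nat.zero_le (halfDeg f * c f)) (Finset.mem_erase.2 ⟨hne, hr⟩)
          have h8 : 0 < halfDeg r * c r := Nat.mul_pos (data r (hRT hr)).1 (data r (hRT hr)).2.1
          rw [hd2.1, hd2.2] at h6
          omega
        subst hrf
        exact ⟨hgo, by rw [← hcr']; exact hd2.2⟩
    obtain ⟨b, hb, hb'⟩ : ∃ b ∈ bnd p q, expo f = dd p * b := by
      have hdd : dd p ∣ q ^ 2 + 1 ∧ dd p ∣ q ^ 2 - 1 := by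
        rcases card_parity (F := F) p with ⟨h, -⟩ | ⟨h, ho⟩
        · rw [dd, if_pos h]; exact ⟨one_dvd _, one_dvd _⟩
        · rw [dd, if_neg h]
          exact ⟨(ho.pow.add_odd odd_one).two_dvd, (Nat.Odd.sub_odd ho.pow odd_one).two_dvd⟩
      rcases expo_cases (F := F) hd2.1 with h | h <;> rw [h, ← hq]
      · exact ⟨_, mem_bnd.2 (Or.inl rfl), (Nat.mul_div_cancel' hdd.1).symm⟩
      · exact ⟨_, mem_bnd.2 (Or.inr (Or.inl rfl)), (Nat.mul_div_cancel' hdd.2).symm⟩
    refine ⟨b, hb, ?_⟩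
    have hb0 : 0 < b := Nat.pos_of_ne_zero fun h0 => by
      rw [h0, mul_zero] at hb'
      rcases expo_cases (F := F) hd2.1 with h | h <;> rw [hb'] at h
      · omega
      · have := Finite.one_lt_card (α := F)
        have h9 : 1 < Nat.card F ^ 2 := Nat.one_lt_pow two_ne_zero this
        omega
    have hcl : ∀ ε : F, ε * ε = 1 → f ∣ X ^ b - C ε → aeval A (X ^ b - C ε) = 0 := by
      intro ε hε hfe
      have h := hann (X ^ b - C ε) 0 (X_pow_sub_C_ne_zero hb0 ε) fun g hg => by
        refine ⟨?_, by rw [pow_zero, (hall g hg).2]⟩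
        have := (hall g hg).1
        simp only [orbit, Finset.mem_insert, Finset.mem_singleton] at this
        rcases this with rfl | rfl
        · exact hfe
        · exact rcp_dvd (mem_fac (hTs f hfT).1).1 b ε hε hfe
      rwa [pow_zero, pow_one] at h
    rcases card_parity (F := F) p with ⟨h, -⟩ | ⟨h, -⟩
    · rw [hb', dd, if_pos h, one_mul, ← C_1] at hfd
      have := hcl 1 (by norm_num) hfd
      rw [map_sub, map_pow, aeval_X, C_1, map_one, sub_eq_zero] at this
      exact Or.inl this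
    · rw [hb', dd, if_neg h, show X ^ (2 * b) - 1 = (X ^ b - C (1 : F)) * (X ^ b - C (-1)) by
        rw [C_neg, C_1]; ring] at hfd
      rcases (mem_fac (hTs f hfT).1).1.prime.dvd_or_dvd hfd with h' | h'
      · have := hcl 1 (by norm_num) h'
        rw [map_sub, map_pow, aeval_X, C_1, map_one, sub_eq_zero] at this
        exact Or.inl this
      · have := hcl (-1) (by norm_num) h'
        rw [map_sub, map_pow, aeval_X, C_neg, C_1, map_neg, map_one, sub_neg_eq_add,
          add_eq_zero_iff_eq_neg] at this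
        exact Or.inr this
  push Not at h2
  have hd1 : ∀ r ∈ R, expo r = q + 1 ∨ expo r = q - 1 := fun r hr => by
    have h1 : halfDeg r = 1 := by have := h2 r hr; have := (data r (hRT hr)).1; omega
    simpa using expo_cases (F := F) h1
  obtain ⟨hm1, hm2, hm3⟩ := dvd_minus (F := F) p
  by_cases hc1 : ∀ g ∈ s, c g ≤ 1
  · refine ⟨(q ^ 2 - 1) / dd p, mem_bnd.2 (Or.inr (Or.inl rfl)), Or.inl ?_⟩
    have hpos : 0 < (q ^ 2 - 1) / dd p := by
      refine Nat.pos_of_ne_zero fun h0 => ?_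
      have := Finite.one_lt_card (α := F)
      have h9 : 1 < q ^ 2 := Nat.one_lt_pow two_ne_zero this
      have h10 : dd p ≤ 2 ∧ 0 < dd p := by unfold dd; split_ifs <;> omega
      rw [Nat.div_eq_zero_iff] at h0
      have h11 : 4 ≤ q ^ 2 := Nat.pow_le_pow_left (show 2 ≤ q by omega) 2
      omega
    have h := hp1 _ 0 hpos fun g hg => by
      refine ⟨?_, by rw [pow_zero]; exact hc1 g hg⟩
      rcases hcover g hg with hgP | ⟨r, hr, -, he, -, hgd⟩
      · exact hPdvd _ hm3 g hgP
      · refine dvd_X_pow_sub_one hgd ?_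
        rw [← he]
        rcases hd1 r hr with h | h <;> rw [h] <;> assumption
    rwa [pow_zero, one_mul] at h
  push Not at hc1
  obtain ⟨g0, hg0, hg02⟩ := hc1
  have hR1 : ∀ r ∈ R, r = f := by
    intro r hr
    by_contra hne
    have h6 := Finset.add_sum_erase R (fun f => halfDeg f * c f) hf
    have h7 : halfDeg r * c r ≤ ∑ x ∈ R.erase f, halfDeg x * c x :=
      Finset.single_le_sum (fun f _ => Nat.zero_le (halfDeg f * c f)) (Finset.mem_erase.2 ⟨hne, hr⟩)
    have h8 : 0 < halfDeg r * c r := Nat.mul_pos (data r (hRT hr)).1 (data r (hRT hr)).2.1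
    have h9 : 0 < halfDeg f * c f := Nat.mul_pos (data f (hRT hf)).1 (data f (hRT hf)).2.1
    rcases hcover g0 hg0 with hgP | ⟨r', hr', hcr', -, -, -⟩
    · have := hcP g0 hgP
      omega
    · have h10 : c r' ≤ halfDeg r' * c r' := Nat.le_mul_of_pos_left _ (data r' (hRT hr')).1
      by_cases hr'f : r' = f
      · subst hr'f; omega
      · have h11 : halfDeg r' * c r' ≤ ∑ x ∈ R.erase f, halfDeg x * c x :=
          Finset.single_le_sum (fun f _ => Nat.zero_le (halfDeg f * c f)) (Finset.mem_erase.2 ⟨hr'f, hr'⟩)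
        omega
  have hfc : 0 < halfDeg f * c f := Nat.mul_pos (data f (hRT hf)).1 (data f (hRT hf)).2.1
  have hfS := hcR f hf
  have hc2 : ∀ g ∈ s, c g ≤ p := fun g hg => le_trans (by
    rcases hcover g hg with hgP | ⟨r, hr, hcr', -, -, -⟩
    · have := hcP g hgP; omega
    · have := hcR r hr
      have : c r ≤ halfDeg r * c r := Nat.le_mul_of_pos_left _ (data r (hRT hr)).1
      omega) (Fact.out : p.Prime).two_le
  have heven : p ≠ 2 → 2 ∣ expo f := fun h => by
    have ho := ((card_parity (F := F) p).resolve_left fun h' => h h'.1).2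
    rcases hd1 f hf with e | e <;> rw [e]
    · exact (ho.add_odd odd_one).two_dvd
    · exact (Nat.Odd.sub_odd ho odd_one).two_dvd
  refine ⟨p * expo f, mem_bnd.2 ?_, Or.inl ?_⟩
  · rcases hd1 f hf with e | e <;> simp [e]
  · have hpos : 0 < expo f := by
      have := Finite.one_lt_card (α := F)
      rcases hd1 f hf with e | e <;> rw [e] <;> omega
    have h := hp1 (expo f) 1 hpos fun g hg => by
      refine ⟨?_, by rw [pow_one]; exact hc2 g hg⟩
      rcases hcover g hg with hgP | ⟨r, hr, -, he, -, hgd⟩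
      · exact hPdvd _ heven g hgP
      · rw [← hR1 r hr, he]; exact hgd
    rwa [pow_one] at h

end Cfsg.Agent.H69.Psp4
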