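import Cfsg.Agent.H55.SpGraphOdd
import Cfsg.Agent.H55.SpOrders
import Cfsg.Agent.H69.Psp4.Upper
import Cfsg.Agent.H69.Psp4.Module

/-!
The set of element orders of `PSp(4,q)`.
-/

set_option autoImplicit false

namespace Cfsg.Agent.H69.Psp4

open Cfsg Cfsg.Agent.H55 Cfsg.Agent.Symplectic Matrix

variable {F : Type*} [Field F] [Finite F] (p : ℕ) [Fact p.Prime] [CharP F p]

include p in
/-- A torus of order `q ^ e ± 1` times a transvection. -/
theorem exists_mixed (M : ℕ) (hM : M ∣ Nat.card F ^ 1 + 1 ∨ M ∣ Nat.card F ^ 1 - 1) :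
    ∃ y : Cfsg.PSp 2 F, p * M ∣ orderOf y := by
  haveI : Fintype F := Fintype.ofFinite F
  have hpp : p.Prime := Fact.out
  obtain ⟨R, _, _, _, P, u, hP, hR, hu, hM'⟩ := hasTorus (F := F) p le_rfl hM
  obtain ⟨v, hv, hvp⟩ := exists_dual_elem (F := F) p
  have hco : Nat.Coprime p M := by
    refine hpp.coprime_iff_not_dvd.2 fun h => ?_
    cases nonempty_fintype F
    obtain ⟨k, -, hk⟩ := FiniteField.card F p
    rw [Nat.card_eq_fintype_card, hk, pow_one] at hM
    have hpk : p ∣ p ^ (k : ℕ) := dvd_pow_self p k.ne_zero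
    rcases hM with h' | h'
    · exact hpp.one_lt.ne' (Nat.dvd_one.1 ((Nat.dvd_add_right hpk).1 (h.trans h')))
    · have h1 : 1 ≤ p ^ (k : ℕ) := Nat.one_le_pow _ _ hpp.pos
      have h2 := Nat.dvd_sub hpk (h.trans h')
      rw [Nat.sub_sub_self h1] at h2
      exact hpp.one_lt.ne' (Nat.dvd_one.1 h2)
  have hlcm : orderOf (u, v) = p * M := by
    rw [Prod.orderOf, hM', hvp, Nat.lcm_comm, hco.lcm_eq_mul]
  by_cases hp2 : p = 2
  · exact exists_psp_of_alg (n := 2) (P.prod (SpAlg.dual F)) (hP.prod SpAlg.dual_alt) (e := 2) le_rfl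
      (by norm_num) (by rw [Module.finrank_prod, hR, finrank_dual]) (u, v)
      (by show (u * P.σ u, v * (SpAlg.dual F).σ v) = 1; rw [hu, hv]; rfl) hlcm
      (Or.inr ((two_eq_zero_iff p).2 hp2))
  · exact exists_psp_of_alg_no_neg (n := 2) (P.prod (SpAlg.dual F)) (hP.prod SpAlg.dual_alt) (e := 2)
      le_rfl (by norm_num) (by rw [Module.finrank_prod, hR, finrank_dual]) (u, v)
      (by show (u * P.σ u, v * (SpAlg.dual F).σ v) = 1; rw [hu, hv]; rfl) hlcm
      (fun h e => pow_ne_neg_one (F := F) (fun h2 => hp2 ((two_eq_zero_iff p).1 h2))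
        (hpp.odd_of_ne_two hp2) hpp.ne_one hvp h (congrArg Prod.snd e))

/-- An element of order four in `Sp(4,2)`. -/
theorem exists_four {F : Type*} [Field F] [CharP F 2] : ∃ y : Cfsg.PSp 2 F, 4 ∣ orderOf y := by
  let M : Matrix (Fin 2 ⊕ Fin 2) (Fin 2 ⊕ Fin 2) (ZMod 2) :=
    fromBlocks !![1, 1; 0, 1] !![0, 1; 0, 1] 0 !![1, 0; 1, 1]
  have hM : M * J (Fin 2) (ZMod 2) * Mᵀ = J (Fin 2) (ZMod 2) := by decide +kernel
  set f := (ZMod.castHom dvd_rfl F).mapMatrix (m := Fin 2 ⊕ Fin 2)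
  have hmem : f M ∈ symplecticGroup (Fin 2) F := by
    rw [SymplecticGroup.mem_iff]
    have hJ : J (Fin 2) F = f (J (Fin 2) (ZMod 2)) := by
      ext i j
      rcases i with i | i <;> rcases j with j | j <;> simp [f, J, Matrix.one_apply] <;> by_cases h : i = j <;> simp [h, CharTwo.neg_eq]
    have hT : (f M)ᵀ = f Mᵀ := by ext i j; rfl
    rw [hJ, hT, ← map_mul, ← map_mul, hM]
  refine ⟨toPSp ⟨f M, hmem⟩, ?_⟩
  have hM4 : M ^ 4 = 1 := by decide +kernel
  have hM2 : M ^ 2 ≠ 1 := by decide +kernel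
  have hneg : (-1 : Matrix (Fin 2 ⊕ Fin 2) (Fin 2 ⊕ Fin 2) (ZMod 2)) = 1 := by decide +kernel
  have : Fact (Nat.Prime 2) := ⟨Nat.prime_two⟩
  have hinj : Function.Injective f := fun a b h => by
    ext i j
    exact (ZMod.castHom dvd_rfl F).injective (congrFun (congrFun h i) j)
  have hiff : ∀ j, toPSp (⟨f M, hmem⟩ : symplecticGroup (Fin 2) F) ^ j = 1 ↔ M ^ j = 1 := by
    intro j
    rw [toPSp_pow_eq_one_iff (by norm_num)]
    show f M ^ j = 1 ∨ f M ^ j = -1 ↔ _
    rw [← map_pow, ← map_one f, ← map_neg, hinj.eq_iff, hinj.eq_iff, hneg, or_self]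
  exact (orderOf_eq_prime_pow (p := 2) (n := 1) (by rw [hiff, pow_one]; exact hM2)
    ((hiff _).2 (by norm_num; exact hM4))).symm ▸ dvd_rfl

include p in
omit [Finite F] in
theorem exists_char_sq [Finite F] (hp3 : p ≤ 3) : ∃ y : Cfsg.PSp 2 F, p ^ 2 ∣ orderOf y := by
  have := (Fact.out : p.Prime).two_le
  interval_cases p
  · exact exists_four
  · obtain ⟨y, hy⟩ := exists_block (F := F) (n := 2) 3 (SpAlg.pad F 0) (by norm_num) (e := 0)
      (by norm_num) (by simp [Module.finrank_prod]) 1 (by simp) 1 orderOf_one (by norm_num)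
    refine ⟨y, ?_⟩
    rw [one_mul, show 2 * (2 - 0) = 4 from rfl] at hy
    refine (pow_dvd_pow 3 ?_).trans hy
    exact (Nat.lt_clog_iff_pow_lt (by norm_num)).2 (by norm_num)

include p in
theorem psp_spectrum : Set.range (orderOf : Cfsg.PSp 2 F → ℕ) = divSet (bnd p (Nat.card F)) := by
  cases nonempty_fintype F
  haveI : Finite (Matrix.symplecticGroup (Fin 2) F) := Subtype.finite
  refine range_eq_divSet _ (fun y => ?_) fun b hb => ?_
  · obtain ⟨A, rfl⟩ := QuotientGroup.mk'_surjective _ y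
    have hA : (A : Symplectic.Mat 2 F) ^ orderOf A = 1 := by
      rw [← SubmonoidClass.coe_pow, pow_orderOf_eq_one, Submonoid.coe_one]
    obtain ⟨b, hb, h⟩ := upper p (orderOf_pos A) hA (invClosed_sp A) (minpoly_natDegree_le_sp _)
    exact ⟨b, hb, (toPSp_pow_eq_one_iff (by norm_num) A b).2 h⟩
  rcases mem_bnd.1 hb with rfl | rfl | rfl | rfl | ⟨hp3, rfl⟩
  rotate_left 2
  · exact exists_mixed p _ (Or.inl (by rw [pow_one]))
  · exact exists_mixed p _ (Or.inr (by rw [pow_one]))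
  · exact exists_char_sq p hp3
  all_goals
    by_cases hp2 : p = 2
    · rw [dd, if_pos hp2, Nat.div_one]
      first
        | exact (hasTorus (F := F) p (M := Nat.card F ^ 2 + 1) (by norm_num) (Or.inl dvd_rfl)).exists_psp
            le_rfl (by norm_num) (Or.inr ((two_eq_zero_iff p).2 hp2))
        | exact (hasTorus (F := F) p (M := Nat.card F ^ 2 - 1) (by norm_num) (Or.inr dvd_rfl)).exists_psp
            le_rfl (by norm_num) (Or.inr ((two_eq_zero_iff p).2 hp2))
    · rw [dd, if_neg hp2]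
      have h2 : (2 : F) ≠ 0 := fun h => hp2 ((two_eq_zero_iff p).1 h)
      have ho : Odd (Nat.card F ^ 2) := (((card_parity (F := F) p).resolve_left fun h => hp2 h.1).2).pow
      first
        | (obtain ⟨R, _, _, _, P, u, -, hR, hu, hM⟩ :=
            hasTorus (F := F) p (e := 2) (M := Nat.card F ^ 2 + 1) (by norm_num) (Or.inl dvd_rfl)
           exact half_dvd_orderOf P h2 (by norm_num) hR u hu _ hM (ho.add_odd odd_one).two_dvd)
        | (obtain ⟨R, _, _, _, P, u, -, hR, hu, hM⟩ :=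
            hasTorus (F := F) p (e := 2) (M := Nat.card F ^ 2 - 1) (by norm_num) (Or.inr dvd_rfl)
           exact half_dvd_orderOf P h2 (by norm_num) hR u hu _ hM
            (Nat.Odd.sub_odd ho odd_one).two_dvd)

end Cfsg.Agent.H69.Psp4
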