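import Cfsg.Agent.H69.Psp4.Upper
import Cfsg.Agent.H69.Psp4.Module

/-!
The witness groups for `q = 3`: `V^k ⋊ S₅`, `V` the sum-zero module twisted by the sign.
-/

set_option autoImplicit false

namespace Cfsg.Agent.H69.Psp4

open Matrix

instance factThree : Fact (Nat.Prime 3) := ⟨Nat.prime_three⟩

/-- Kronecker delta modulo three. -/
def delta3 (a b : Fin 5) : ZMod 3 := if a = b then 1 else 0

/-- An entry of the sum-zero module. -/
def heartEnt (π : Equiv.Perm (Fin 5)) (i j : Fin 4) : ZMod 3 :=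
  delta3 (π j.castSucc) i.castSucc - delta3 (π (Fin.last 4)) i.castSucc

/-- The sign modulo three. -/
def sgn3 : Equiv.Perm (Fin 5) →* ZMod 3 :=
  ((Int.castRingHom (ZMod 3)).toMonoidHom.comp (Units.coeHom ℤ)).comp Equiv.Perm.sign

/-- The twisted sum-zero representation of `S₅`. -/
def heartMat : Equiv.Perm (Fin 5) →* Matrix (Fin 4) (Fin 4) (ZMod 3) where
  toFun π := sgn3 π • Matrix.of (heartEnt π)
  map_one' := by
    rw [map_one, one_smul]
    ext i j
    show heartEnt 1 i j = (1 : Matrix (Fin 4) (Fin 4) (ZMod 3)) i j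
    rw [Matrix.one_apply]
    revert i j
    decide
  map_mul' π σ := by
    rw [map_mul, Matrix.smul_mul, Matrix.mul_smul, smul_smul]
    congr 1
    ext i j
    rw [Matrix.mul_apply]
    have h := Fin.sum_univ_castSucc fun l : Fin 5 =>
      (delta3 (π l) i.castSucc - delta3 (π (Fin.last 4)) i.castSucc) *
        (delta3 (σ j.castSucc) l - delta3 (σ (Fin.last 4)) l)
    simp only [sub_self, zero_mul, add_zero] at h
    simp only [Matrix.of_apply, heartEnt]
    rw [← h]
    simp [delta3, mul_sub, Finset.sum_sub_distrib, Equiv.Perm.mul_apply]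
    rfl

/-- The twisted sum-zero representation, in the general linear group. -/
def heartHom : Equiv.Perm (Fin 5) →* GL (Fin 4) (ZMod 3) := heartMat.toHomUnits

theorem heartHom_val (π : Equiv.Perm (Fin 5)) :
    (heartHom π : Matrix (Fin 4) (Fin 4) (ZMod 3)) = heartMat π := rfl

set_option maxRecDepth 40000 in
theorem heart_cases : ∀ π : Equiv.Perm (Fin 5), π ^ 2 = 1 ∨ π ^ 3 = 1 ∨ π ^ 4 = 1 ∨
    ∃ b ∈ [5, 6], π ^ b = 1 ∧ ∃ s ∈ [(1 : ZMod 3), -1], sgn3 π = s ∧ ∀ i j,
      ∑ k ∈ Finset.range b, s ^ k * heartEnt (π ^ k) i j = 0 := by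
  decide

theorem heart_psum (π : Equiv.Perm (Fin 5)) (b : ℕ) (i j : Fin 4) :
    (∑ k ∈ Finset.range b, heartMat π ^ k) i j =
      ∑ k ∈ Finset.range b, sgn3 π ^ k * heartEnt (π ^ k) i j := by
  rw [Matrix.sum_apply]
  refine Finset.sum_congr rfl fun k _ => ?_
  rw [← map_pow, ← map_pow sgn3]
  rfl

theorem heart_upper (π : Equiv.Perm (Fin 5)) : ∃ b ∈ bnd 3 3, heartMat π ^ b = 1 ∧
    ∑ k ∈ Finset.range b, heartMat π ^ k = 0 := by
  have key : ∀ m, π ^ m = 1 → heartMat π ^ (m * 3) = 1 ∧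
      ∑ k ∈ Finset.range (m * 3), heartMat π ^ k = 0 := by
    intro m hm
    have h1 : heartMat π ^ m = 1 := by rw [← map_pow, hm, map_one]
    refine ⟨by rw [pow_mul, h1, one_pow], ?_⟩
    rw [show m * 3 = m + m + m by omega, Finset.sum_range_add, Finset.sum_range_add]
    simp only [pow_add, h1, one_mul]
    ext i j
    simp only [Matrix.add_apply, Matrix.zero_apply]
    have h3 : (3 : ZMod 3) = 0 := rfl
    linear_combination ((∑ k ∈ Finset.range m, heartMat π ^ k) i j) * h3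
  rcases heart_cases π with h | h | h | ⟨b, hb, h1, s, -, hs, hsum⟩
  · exact ⟨2 * 3, mem_bnd.2 (by simp), key 2 h⟩
  · exact ⟨3 * 3, mem_bnd.2 (by simp), key 3 h⟩
  · exact ⟨4 * 3, mem_bnd.2 (by simp), key 4 h⟩
  · refine ⟨b, ?_, by rw [← map_pow, h1, map_one], ?_⟩
    · simp only [List.mem_cons, List.not_mem_nil, or_false] at hb
      rcases hb with rfl | rfl <;> refine mem_bnd.2 ?_ <;> simp [dd]
    · ext i j
      rw [heart_psum, hs, hsum]
      rfl

theorem witness_q_three (N : ℕ) :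
    ∃ (H : Type) (_ : Group H) (_ : Fintype H), N < Fintype.card H ∧
      Set.range (orderOf : H → ℕ) = divSet (bnd 3 3) := by
  refine exists_large_spectrum 3 heartHom.range (bnd 3 3) ?_ ?_ N
  · rintro _ ⟨π, rfl⟩
    exact heart_upper π
  · intro b hb
    let c5 : Equiv.Perm (Fin 5) := finRotate 5
    let t : Equiv.Perm (Fin 5) := Equiv.swap 0 1
    let c3 : Equiv.Perm (Fin 5) := Equiv.swap 0 1 * Equiv.swap 1 2
    let c4 : Equiv.Perm (Fin 5) := Equiv.swap 0 1 * Equiv.swap 1 2 * Equiv.swap 2 3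
    have hne : ∀ π : Equiv.Perm (Fin 5), (∃ i j, sgn3 π * heartEnt π i j ≠ if i = j then 1 else 0) →
        heartHom π ≠ 1 := by
      rintro π ⟨i, j, hij⟩ h
      refine hij ?_
      have e : (heartHom π : Matrix (Fin 4) (Fin 4) (ZMod 3)) = 1 := by rw [h]; rfl
      have := congrFun (congrFun e i) j
      rw [heartHom_val, Matrix.one_apply] at this
      exact this
    have hord : ∀ (π : Equiv.Perm (Fin 5)) (n : ℕ), n.Prime → π ^ n = 1 →
        (∃ i j, sgn3 π * heartEnt π i j ≠ if i = j then 1 else 0) → orderOf (heartHom π) = n :=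
      fun π n hn h1 h => by
        have := Fact.mk hn
        exact orderOf_eq_prime (by rw [← map_pow, h1, map_one]) (hne π h)
    have h4 : orderOf (heartHom c4) = 2 ^ (1 + 1) :=
      orderOf_eq_prime_pow (by rw [← map_pow]; exact hne _ (by decide))
        (by rw [← map_pow, show c4 ^ 2 ^ (1 + 1) = 1 by decide, map_one])
    have hs : ∀ (π : Equiv.Perm (Fin 5)) (n : ℕ), orderOf (heartHom π) = n →
        (∃ i j, ∑ k ∈ Finset.range n, sgn3 π ^ k * heartEnt (π ^ k) i j ≠ 0) →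
        ∑ k ∈ Finset.range (orderOf (heartHom π)),
          (heartHom π : Matrix (Fin 4) (Fin 4) (ZMod 3)) ^ k ≠ 0 := by
      rintro π n hn ⟨i, j, hij⟩ h
      refine hij ?_
      rw [hn, heartHom_val] at h
      rw [← heart_psum, h]
      rfl
    rcases mem_bnd.1 hb with rfl | rfl | rfl | rfl | ⟨-, rfl⟩
    · exact ⟨_, ⟨c5, rfl⟩, Or.inl (by rw [hord c5 5 (by norm_num) (by decide) (by decide)]; simp [dd])⟩
    · exact ⟨_, ⟨c4, rfl⟩, Or.inl (by rw [h4]; simp [dd])⟩
    · exact ⟨_, ⟨c4, rfl⟩, Or.inr ⟨by rw [h4]; norm_num, hs c4 4 h4 (by decide)⟩⟩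
    · have h := hord t 2 Nat.prime_two (by decide) (by decide)
      exact ⟨_, ⟨t, rfl⟩, Or.inr ⟨by rw [h], hs t 2 h (by decide)⟩⟩
    · have h := hord c3 3 Nat.prime_three (by decide) (by decide)
      exact ⟨_, ⟨c3, rfl⟩, Or.inr ⟨by rw [h]; norm_num, hs c3 3 h (by decide)⟩⟩

end Cfsg.Agent.H69.Psp4
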