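import Cfsg.Agent.H69.Psp4.Witness
import Cfsg.Agent.H69.Psp4.Three
import Cfsg.Agent.H69.Psp4.Spectrum

/-!
`PSp(4,q)` has arbitrarily large isospectral groups.
-/

set_option autoImplicit false

namespace Cfsg.Agent.H69.Psp4

theorem exists_witness (p : ℕ) [Fact p.Prime] (f : ℕ) (hf : 1 ≤ f)
    (hq : p = 3 → Odd f → f = 1) (N : ℕ) :
    ∃ (H : Type) (_ : Group H) (_ : Fintype H), N < Fintype.card H ∧
      Set.range (orderOf : H → ℕ) = divSet (bnd p (p ^ f)) := by
  let K := GaloisField p (2 * f)
  letI := Fintype.ofFinite K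
  have hK : Fintype.card K = (p ^ f) ^ 2 := by
    rw [← Nat.card_eq_fintype_card, GaloisField.card p (2 * f) (by omega), ← pow_mul, mul_comm]
  let L := AlgebraicClosure K
  have : CharP L p := charP_of_injective_algebraMap (algebraMap K L).injective p
  by_cases h2 : p = 2
  · subst h2
    exact witness_two (K := K) (L := L) hK hf N
  by_cases h3 : p = 3
  · subst h3
    rcases Nat.even_or_odd f with he | ho
    · exact witness_three (K := K) (L := L) hK hf he N
    · rw [hq rfl ho, pow_one]
      exact witness_q_three N
  have hp3 : 3 < p := by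
    have := (Fact.out : p.Prime).two_le
    omega
  exact witness_large (K := K) p L hp3 hK hf N

end Cfsg.Agent.H69.Psp4
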