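import Cfsg.Agent.H69.Psp4.SL2

/-!
Representations of `SL₂` given by twisted Kronecker products, and their power sums.
-/

set_option autoImplicit false

namespace Cfsg.Agent.H69.Psp4

open Matrix

/-- Sum of the first `n` powers. -/
abbrev psum {R : Type*} [Semiring R] (a : R) (n : ℕ) : R := ∑ i ∈ Finset.range n, a ^ i

theorem psum_mul {R : Type*} [Semiring R] {a : R} {n : ℕ} (h : a ^ n = 1) (c : ℕ) :
    psum a (n * c) = c • psum a n := by
  induction c with
  | zero => simp [psum]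
  | succ c ih =>
    rw [psum, Nat.mul_succ, Finset.sum_range_add]
    change psum a (n * c) + _ = _
    rw [ih, succ_nsmul]
    simp_rw [pow_add, pow_mul, h, one_pow, one_mul]

/-- A multiple by the characteristic of a period. -/
theorem psum_char {ι K : Type*} [Fintype ι] [DecidableEq ι] [CommRing K] (p : ℕ) [CharP K p]
    {a : Matrix ι ι K} {n : ℕ} (h : a ^ n = 1) : a ^ (p * n) = 1 ∧ psum a (p * n) = 0 := by
  refine ⟨by rw [mul_comm, pow_mul, h, one_pow], ?_⟩
  rw [mul_comm, psum_mul h, ← Nat.cast_smul_eq_nsmul K, CharP.cast_eq_zero K p, zero_smul]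

theorem psum_two_mul {R : Type*} [Semiring R] (a : R) (n : ℕ) :
    psum a (2 * n) = (1 + a) * psum (a ^ 2) n := by
  induction n with
  | zero => simp [psum]
  | succ n ih =>
    rw [show 2 * (n + 1) = 2 * n + 1 + 1 by ring, psum, Finset.sum_range_succ, Finset.sum_range_succ]
    change psum a (2 * n) + _ + _ = _
    rw [ih, psum, psum, Finset.sum_range_succ, mul_add, ← pow_mul, add_mul (1 : R) a (a ^ (2 * n)), one_mul,
      ← pow_succ', add_assoc]

variable (K L : Type*) [Field K] [Field L] [Algebra K L]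

/-- A matrix representation of `SL₂` defined over `K`, diagonal on the diagonal torus. -/
structure Rep (ι : Type*) [Fintype ι] [DecidableEq ι] where
  /-- the representation -/
  φ : Matrix (Fin 2) (Fin 2) K →* Matrix ι ι K
  /-- its extension -/
  φL : Matrix (Fin 2) (Fin 2) L →* Matrix ι ι L
  /-- the weights -/
  w : ι → L → L
  compat : ∀ A, (φ A).map (algebraMap K L) = φL (A.map (algebraMap K L))
  neg : ∀ A, φ (-A) = φ A
  diag : ∀ x, φL (dmat x) = diagonal fun i => w i x
  faithful : ∀ x, x ≠ 0 → (∀ i, w i x = 1) → x ^ 2 = 1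

variable {K L} {ι : Type*} [Fintype ι] [DecidableEq ι] (ρ : Rep K L ι)

theorem Rep.pow_eq_one {A : Matrix (Fin 2) (Fin 2) K} {P : Matrix (Fin 2) (Fin 2) L} {x : L}
    (hP : IsUnit P) (hAP : A.map (algebraMap K L) * P = P * dmat x) {n : ℕ} (hn : (x ^ n) ^ 2 = 1) :
    ρ.φ A ^ n = 1 := by
  have h1 : (A ^ n).map (algebraMap K L) * P = P * dmat (x ^ n) := by
    rw [Matrix.map_pow, ← dmat_pow]
    exact ((show SemiconjBy P (dmat x) (A.map (algebraMap K L)) from hAP.symm).pow_right n).eq.symm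
  rw [← map_pow]
  rcases sq_eq_one_iff.1 hn with h | h <;> rw [h] at h1
  · rw [dmat_one, mul_one] at h1
    have : A ^ n = 1 := by
      refine Matrix.map_injective (algebraMap K L).injective (hP.mul_right_cancel ?_)
      dsimp only
      rw [h1, Matrix.map_one _ (map_zero _) (map_one _), one_mul]
    rw [this, map_one]
  · rw [dmat_neg_one, mul_neg, mul_one] at h1
    have : A ^ n = -1 := by
      refine Matrix.map_injective (algebraMap K L).injective (hP.mul_right_cancel ?_)
      dsimp only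
      rw [h1, ← RingHom.mapMatrix_apply, map_neg, map_one, neg_one_mul]
    rw [this, ρ.neg, map_one]

theorem Rep.conj {A : Matrix (Fin 2) (Fin 2) K} {P : Matrix (Fin 2) (Fin 2) L} {x : L}
    (hAP : A.map (algebraMap K L) * P = P * dmat x) (n : ℕ) :
    (ρ.φ A ^ n).map (algebraMap K L) * ρ.φL P = ρ.φL P * diagonal fun i => ρ.w i x ^ n := by
  rw [Matrix.map_pow, ρ.compat, show (fun i => ρ.w i x ^ n) = (fun i => ρ.w i x) ^ n from rfl,
    ← diagonal_pow, ← ρ.diag, ← map_pow, ← map_pow, ← map_mul, ← map_mul]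
  congr 1
  exact ((show SemiconjBy P (dmat x) (A.map (algebraMap K L)) from hAP.symm).pow_right n).eq.symm

theorem Rep.psum_eq_zero {A : Matrix (Fin 2) (Fin 2) K} {P : Matrix (Fin 2) (Fin 2) L} {x : L}
    (hP : IsUnit P) (hAP : A.map (algebraMap K L) * P = P * dmat x) {n : ℕ} (hn : ρ.φ A ^ n = 1)
    (hw : ∀ i, ρ.w i x ≠ 1) : psum (ρ.φ A) n = 0 := by
  have hU : IsUnit (ρ.φL P) := hP.map ρ.φL
  have hone : ∀ i, ρ.w i x ^ n = 1 := by
    intro i
    have h := ρ.conj hAP n
    rw [hn, Matrix.map_one _ (map_zero _) (map_one _), one_mul] at h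
    have h' := hU.mul_left_cancel (h.symm.trans (mul_one _).symm)
    simpa using congrFun (congrFun h' i) i
  refine Matrix.map_injective (algebraMap K L).injective (hU.mul_right_cancel ?_)
  dsimp only
  rw [Matrix.map_zero _ (map_zero _), zero_mul, psum, ← RingHom.mapMatrix_apply, map_sum, Finset.sum_mul]
  simp_rw [RingHom.mapMatrix_apply, ρ.conj hAP]
  rw [← Finset.mul_sum]
  have h0 : ∑ j ∈ Finset.range n, diagonal (fun i => ρ.w i x ^ j) = (0 : Matrix ι ι L) := by
    ext i j
    rw [Matrix.sum_apply, Matrix.zero_apply]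
    by_cases h : i = j
    · subst h
      simp only [diagonal_apply_eq]
      have := geom_sum_mul (ρ.w i x) n
      rw [hone i, sub_self, mul_eq_zero] at this
      exact this.resolve_right (sub_ne_zero.2 (hw i))
    · simp [h]
  rw [h0, mul_zero]

theorem Rep.sq_eq_one_of_pow {A : Matrix (Fin 2) (Fin 2) K} {P : Matrix (Fin 2) (Fin 2) L} {x : L}
    (hx : x ≠ 0) (hP : IsUnit P) (hAP : A.map (algebraMap K L) * P = P * dmat x) {j : ℕ}
    (hj : ρ.φ A ^ j = 1) : (x ^ j) ^ 2 = 1 := by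
  refine ρ.faithful _ (pow_ne_zero _ hx) fun i => ?_
  have h := ρ.conj hAP j
  rw [hj, Matrix.map_one _ (map_zero _) (map_one _), one_mul] at h
  have h' := (hP.map ρ.φL).mul_left_cancel (h.symm.trans (mul_one _).symm)
  have h2 : ρ.φL (dmat (x ^ j)) = 1 := by
    rw [← dmat_pow, map_pow, ρ.diag, diagonal_pow]
    exact h'
  rw [ρ.diag] at h2
  simpa using congrFun (congrFun h2 i) i

/-- Twisted Kronecker product. -/
def tw {m n R : Type*} [CommRing R] [Fintype m] [DecidableEq m] [Fintype n] [DecidableEq n] {ι₁ : Type*}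
    [Fintype ι₁] [DecidableEq ι₁] (f : Matrix ι₁ ι₁ R →* Matrix m m R)
    (g : Matrix ι₁ ι₁ R →* Matrix n n R) : Matrix ι₁ ι₁ R →* Matrix (m × n) (m × n) R where
  toFun B := kroneckerMap (· * ·) (f B) (g B)
  map_one' := by rw [map_one, map_one]; exact one_kronecker_one
  map_mul' A B := by rw [map_mul, map_mul]; exact mul_kronecker_mul _ _ _ _

/-- The Frobenius twist. -/
def frobTwist (R : Type*) [CommRing R] (p : ℕ) [ExpChar R p] (k : ℕ) :
    Matrix (Fin 2) (Fin 2) R →* Matrix (Fin 2) (Fin 2) R :=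
  (iterateFrobenius R p k).mapMatrix.toMonoidHom

theorem frobTwist_apply {R : Type*} [CommRing R] (p : ℕ) [ExpChar R p] (k : ℕ)
    (A : Matrix (Fin 2) (Fin 2) R) (i j : Fin 2) : frobTwist R p k A i j = A i j ^ p ^ k := rfl

theorem frobTwist_neg {R : Type*} [CommRing R] (p : ℕ) [ExpChar R p] (k : ℕ)
    (A : Matrix (Fin 2) (Fin 2) R) : frobTwist R p k (-A) = -frobTwist R p k A :=
  map_neg (iterateFrobenius R p k).mapMatrix A

theorem frobTwist_map (p : ℕ) [ExpChar K p] [ExpChar L p] (k : ℕ) (A : Matrix (Fin 2) (Fin 2) K) :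
    (frobTwist K p k A).map (algebraMap K L) = frobTwist L p k (A.map (algebraMap K L)) := by
  ext i j
  simp [frobTwist_apply, map_pow]

theorem frobTwist_dmat (p : ℕ) [ExpChar L p] (k : ℕ) (x : L) :
    frobTwist L p k (dmat x) = dmat (x ^ p ^ k) := by
  have hpos : p ^ k ≠ 0 := pow_ne_zero _ (expChar_ne_zero L p)
  ext i j
  rw [frobTwist_apply]
  fin_cases i <;> fin_cases j <;> simp [dmat, zero_pow hpos]

variable (K L)
variable (p : ℕ) [Fact p.Prime] [CharP K p] [CharP L p] (f : ℕ)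

/-- `A ↦ A ⊗ A^(q)`. -/
def rep2 : Rep K L (Fin 2 × Fin 2) where
  φ := tw (frobTwist K p 0) (frobTwist K p f)
  φL := tw (frobTwist L p 0) (frobTwist L p f)
  w i x := ![x, x⁻¹] i.1 * ![x ^ p ^ f, (x ^ p ^ f)⁻¹] i.2
  compat A := by
    show (kroneckerMap _ _ _).map _ = kroneckerMap _ _ _
    rw [← frobTwist_map, ← frobTwist_map]
    ext i j
    simp [map_mul]
  neg A := by
    show kroneckerMap _ (frobTwist K p 0 (-A)) _ = kroneckerMap _ _ _
    rw [frobTwist_neg, frobTwist_neg]
    ext i j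
    simp
  diag x := by
    show kroneckerMap _ (frobTwist L p 0 (dmat x)) _ = _
    rw [frobTwist_dmat, frobTwist_dmat, pow_zero, pow_one]
    exact diagonal_kronecker_diagonal _ _
  faithful x hx h := by
    have h1 := h (0, 0)
    have h2 := h (0, 1)
    simp at h1 h2
    have e : x ^ p ^ f * (x ^ p ^ f)⁻¹ = 1 := mul_inv_cancel₀ (pow_ne_zero _ hx)
    linear_combination (x * (x ^ p ^ f)⁻¹) * h1 + h2 - x ^ 2 * e

/-- `A ↦ A ⊗ A^(p) ⊗ A^(q) ⊗ A^(q)`. -/
def rep4 : Rep K L ((Fin 2 × Fin 2) × (Fin 2 × Fin 2)) where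
  φ := tw (tw (frobTwist K p 0) (frobTwist K p 1)) (tw (frobTwist K p f) (frobTwist K p f))
  φL := tw (tw (frobTwist L p 0) (frobTwist L p 1)) (tw (frobTwist L p f) (frobTwist L p f))
  w i x := (![x, x⁻¹] i.1.1 * ![x ^ p, (x ^ p)⁻¹] i.1.2) *
    (![x ^ p ^ f, (x ^ p ^ f)⁻¹] i.2.1 * ![x ^ p ^ f, (x ^ p ^ f)⁻¹] i.2.2)
  compat A := by
    show (kroneckerMap _ (kroneckerMap _ _ _) (kroneckerMap _ _ _)).map _ =
      kroneckerMap _ (kroneckerMap _ _ _) (kroneckerMap _ _ _)
    rw [← frobTwist_map, ← frobTwist_map, ← frobTwist_map]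
    ext i j
    simp [map_mul]
  neg A := by
    ext i j
    show (frobTwist K p 0 (-A) i.1.1 j.1.1 * frobTwist K p 1 (-A) i.1.2 j.1.2) *
        (frobTwist K p f (-A) i.2.1 j.2.1 * frobTwist K p f (-A) i.2.2 j.2.2) =
      (frobTwist K p 0 A i.1.1 j.1.1 * frobTwist K p 1 A i.1.2 j.1.2) *
        (frobTwist K p f A i.2.1 j.2.1 * frobTwist K p f A i.2.2 j.2.2)
    simp only [frobTwist_neg, Matrix.neg_apply]
    ring
  diag x := by
    show kroneckerMap _ (kroneckerMap _ (frobTwist L p 0 (dmat x)) _) (kroneckerMap _ _ _) = _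
    rw [frobTwist_dmat, frobTwist_dmat, frobTwist_dmat, pow_zero, pow_one, pow_one]
    simp only [dmat, diagonal_kronecker_diagonal]
  faithful x hx h := by
    have h1 := h ((0, 0), (0, 0))
    have h2 := h ((1, 0), (0, 0))
    simp at h1 h2
    set z := x ^ p * (x ^ p ^ f * x ^ p ^ f)
    have e : x * x⁻¹ = 1 := mul_inv_cancel₀ hx
    have h1' : x * z = 1 := by linear_combination h1
    have h2' : x⁻¹ * z = 1 := by linear_combination h2
    linear_combination (-(x ^ 2)) * h2' + x * z * e + h1'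

end Cfsg.Agent.H69.Psp4
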