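import Mathlib

/-!
Eigenvalues of elements of `SL₂` over a finite field.
-/

set_option autoImplicit false

namespace Cfsg.Agent.H69.Psp4

open Matrix

variable {K L : Type*} [Field K] [Field L] [Algebra K L]

/-- The diagonal matrix with entries `x`, `x⁻¹`. -/
def dmat {R : Type*} [Zero R] [Inv R] (x : R) : Matrix (Fin 2) (Fin 2) R := diagonal ![x, x⁻¹]

theorem dmat_pow (x : L) (n : ℕ) : dmat x ^ n = dmat (x ^ n) := by
  rw [dmat, dmat, diagonal_pow]
  congr 1
  funext i
  fin_cases i <;> simp

theorem dmat_one : dmat (1 : L) = 1 := by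
  ext i j
  fin_cases i <;> fin_cases j <;> simp [dmat]

theorem dmat_neg_one : dmat (-1 : L) = -1 := by
  ext i j
  fin_cases i <;> fin_cases j <;> simp [dmat]

theorem sq_sub_trace_mul (A : Matrix (Fin 2) (Fin 2) K) (hA : A.det = 1) :
    A * A - A.trace • A + 1 = 0 := by
  rw [Matrix.det_fin_two] at hA
  ext i j
  fin_cases i <;> fin_cases j <;>
    simp [Matrix.mul_apply, Matrix.trace_fin_two, Fin.sum_univ_two] <;>
    first | linear_combination -hA | linear_combination (0 : K) * hA

variable (L) [IsAlgClosed L]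

/-- Either `± A` is unipotent, or `A` is diagonalisable over the algebraic closure. -/
theorem sl2_dichotomy (A : Matrix (Fin 2) (Fin 2) K) (hA : A.det = 1) :
    (∃ n : Matrix (Fin 2) (Fin 2) K, n * n = 0 ∧ (A = 1 + n ∨ A = -(1 + n))) ∨
      ∃ (x : L) (P : Matrix (Fin 2) (Fin 2) L), x ≠ 0 ∧ x ^ 2 ≠ 1 ∧
        algebraMap K L A.trace = x + x⁻¹ ∧ IsUnit P ∧ A.map (algebraMap K L) * P = P * dmat x := by
  obtain ⟨x, hx⟩ := IsAlgClosed.exists_root
    (Polynomial.X ^ 2 - Polynomial.C (algebraMap K L A.trace) * Polynomial.X + 1 : Polynomial L) (by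
      intro h
      have h2 : (Polynomial.X ^ 2 - Polynomial.C (algebraMap K L A.trace) * Polynomial.X + 1 :
          Polynomial L).coeff 2 = 1 := by
        simp [Polynomial.coeff_X_pow, Polynomial.coeff_one, Polynomial.coeff_X]
      rw [Polynomial.eq_C_of_degree_eq_zero h, Polynomial.coeff_C] at h2
      simp at h2)
  rw [Polynomial.IsRoot.def] at hx
  simp only [Polynomial.eval_add, Polynomial.eval_sub, Polynomial.eval_pow, Polynomial.eval_X,
    Polynomial.eval_mul, Polynomial.eval_C, Polynomial.eval_one] at hx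
  have hx0 : x ≠ 0 := by rintro rfl; simp at hx
  have ht : algebraMap K L A.trace = x + x⁻¹ := by field_simp; linear_combination -hx
  by_cases hsq : x ^ 2 = 1
  · left
    have hinv : x⁻¹ = x := inv_eq_of_mul_eq_one_right (by rw [← sq, hsq])
    rw [hinv] at ht
    have h := sq_sub_trace_mul A hA
    rcases sq_eq_one_iff.1 hsq with rfl | rfl
    · have ht2 : A.trace = 2 := (algebraMap K L).injective (by rw [ht, map_ofNat]; norm_num)
      rw [ht2, two_smul] at h
      refine ⟨A - 1, ?_, Or.inl (by abel)⟩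
      rw [← h, sub_mul, mul_sub, mul_one, one_mul]; abel
    · have ht2 : A.trace = -2 := (algebraMap K L).injective (by rw [ht, map_neg, map_ofNat]; norm_num)
      rw [ht2, neg_smul, two_smul] at h
      refine ⟨-A - 1, ?_, Or.inr (by abel)⟩
      rw [← h, sub_mul, mul_sub, mul_one, one_mul, neg_mul_neg]; abel
  right
  set B := A.map (algebraMap K L) with hB
  have hdet : B.det = 1 := by
    rw [hB, ← RingHom.mapMatrix_apply, ← RingHom.map_det, hA, map_one]
  have htr : B.trace = x + x⁻¹ := by
    rw [← ht, hB, Matrix.trace_fin_two, Matrix.trace_fin_two, map_add]; rfl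
  have hev : ∀ y : L, y + y⁻¹ = x + x⁻¹ → y ≠ 0 → ∃ v : Fin 2 → L, v ≠ 0 ∧ B *ᵥ v = y • v := by
    intro y hy hy0
    obtain ⟨v, hv, hv0⟩ := Matrix.exists_mulVec_eq_zero_iff.2
      (show (B - y • (1 : Matrix (Fin 2) (Fin 2) L)).det = 0 by
        rw [Matrix.trace_fin_two] at htr
        rw [Matrix.det_fin_two] at hdet ⊢
        simp
        have e1 : y * y⁻¹ = 1 := mul_inv_cancel₀ hy0
        linear_combination hdet - y * htr + y * hy - e1)
    refine ⟨v, hv, ?_⟩
    rwa [Matrix.sub_mulVec, Matrix.smul_mulVec, Matrix.one_mulVec, sub_eq_zero] at hv0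
  obtain ⟨v, hv, hBv⟩ := hev x rfl hx0
  obtain ⟨w, hw, hBw⟩ := hev x⁻¹ (by rw [inv_inv, add_comm]) (inv_ne_zero hx0)
  set P : Matrix (Fin 2) (Fin 2) L := Matrix.of fun i j => ![v, w] j i with hP
  refine ⟨x, P, hx0, hsq, ht, ?_, ?_⟩
  · rw [Matrix.isUnit_iff_isUnit_det, isUnit_iff_ne_zero]
    intro hd
    obtain ⟨c, hc, hc0⟩ := Matrix.exists_mulVec_eq_zero_iff.2 hd
    have hlin : c 0 • v + c 1 • w = 0 := by
      funext i
      have := congrFun hc0 i
      simp [hP, Matrix.mulVec, dotProduct, Fin.sum_univ_two] at this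
      simp
      linear_combination this
    have h2 := congrArg (B *ᵥ ·) hlin
    simp only [mulVec_add, mulVec_smul, hBv, hBw, mulVec_zero] at h2
    have h3 : (c 0 * (x - x⁻¹)) • v = 0 := by
      have := congrArg (x⁻¹ • ·) hlin
      simp only [smul_add, smul_zero, smul_smul] at this h2
      rw [mul_sub, sub_smul, sub_eq_zero]
      have e : (c 0 * x) • v + (c 1 * x⁻¹) • w = (x⁻¹ * c 0) • v + (x⁻¹ * c 1) • w := by rw [h2, this]
      rw [mul_comm x⁻¹ (c 1), add_left_inj, mul_comm x⁻¹] at e
      exact e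
    have hc00 : c 0 = 0 := by
      rcases mul_eq_zero.1 ((smul_eq_zero.1 h3).resolve_right hv) with h | h
      · exact h
      · exfalso
        rw [sub_eq_zero] at h
        exact hsq (by rw [sq]; nth_rewrite 2 [h]; exact mul_inv_cancel₀ hx0)
    rw [hc00, zero_smul, zero_add] at hlin
    refine hc (funext fun i => ?_)
    fin_cases i
    · exact hc00
    · exact (smul_eq_zero.1 hlin).resolve_right hw
  · ext i j
    rw [dmat, Matrix.mul_diagonal]
    fin_cases j
    · have := congrFun hBv i
      simp [Matrix.mul_apply, hP, Matrix.mulVec, dotProduct] at this ⊢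
      linear_combination this
    · have := congrFun hBw i
      simp [Matrix.mul_apply, hP, Matrix.mulVec, dotProduct] at this ⊢
      linear_combination this

variable {L}

omit [IsAlgClosed L]

/-- A torus element with Galois fixed trace. -/
theorem torus_of_fixed (p : ℕ) [Fact p.Prime] [CharP L p] (k : ℕ) {x : L} (hx : x ≠ 0)
    (h : (x + x⁻¹) ^ p ^ k = x + x⁻¹) : x ^ (p ^ k - 1) = 1 ∨ x ^ (p ^ k + 1) = 1 := by
  have hc : 1 ≤ p ^ k := Nat.one_le_pow _ _ (Fact.out : p.Prime).pos
  rw [add_pow_char_pow, inv_pow] at h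
  set y := x ^ p ^ k with hy
  have hy0 : y ≠ 0 := pow_ne_zero _ hx
  have h2 : (y - x) * (y * x - 1) = 0 := by
    have e1 : y * y⁻¹ = 1 := mul_inv_cancel₀ hy0
    have e2 : x * x⁻¹ = 1 := mul_inv_cancel₀ hx
    linear_combination (y * x) * h - x * e1 + y * e2
  rcases mul_eq_zero.1 h2 with h3 | h3
  · left
    rw [sub_eq_zero, hy] at h3
    refine mul_right_cancel₀ hx ?_
    rw [← pow_succ, Nat.sub_add_cancel hc, h3, one_mul]
  · right
    rw [sub_eq_zero, hy, ← pow_succ] at h3
    exact h3

/-- Fixed elements of the Frobenius of `K` lie in `K`. -/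
theorem mem_range_of_pow_card [Fintype K] {y : L} (h : y ^ Fintype.card K = y) :
    y ∈ (algebraMap K L).range := by
  classical
  have hne : (Polynomial.X ^ Fintype.card K - Polynomial.X : Polynomial L) ≠ 0 :=
    FiniteField.X_pow_card_sub_X_ne_zero L Fintype.one_lt_card
  have hsub : Finset.univ.image (algebraMap K L) ⊆
      (Polynomial.X ^ Fintype.card K - Polynomial.X : Polynomial L).roots.toFinset := by
    intro z hz
    obtain ⟨a, -, rfl⟩ := Finset.mem_image.1 hz
    rw [Multiset.mem_toFinset, Polynomial.mem_roots hne, Polynomial.IsRoot.def]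
    simp [← map_pow, FiniteField.pow_card]
  have hle : (Polynomial.X ^ Fintype.card K - Polynomial.X : Polynomial L).roots.toFinset.card ≤
      (Finset.univ.image (algebraMap K L)).card := by
    rw [Finset.card_image_of_injective _ (algebraMap K L).injective, Finset.card_univ]
    refine (Multiset.toFinset_card_le _).trans ((Polynomial.card_roots' _).trans ?_)
    rw [FiniteField.X_pow_card_sub_X_natDegree_eq L Fintype.one_lt_card]
  have hy : y ∈ (Polynomial.X ^ Fintype.card K - Polynomial.X : Polynomial L).roots.toFinset := by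
    rw [Multiset.mem_toFinset, Polynomial.mem_roots hne, Polynomial.IsRoot.def]
    simp [h]
  rw [← Finset.eq_of_subset_of_card_le hsub hle] at hy
  obtain ⟨a, -, ha⟩ := Finset.mem_image.1 hy
  exact ⟨a, ha⟩

end Cfsg.Agent.H69.Psp4
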