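import Cfsg.Agent.H69.Psp4.Rep
import Cfsg.Agent.H69.Psp4.Upper

/-!
Upper bounds for the element orders of the witness groups.
-/

set_option autoImplicit false

namespace Cfsg.Agent.H69.Psp4

open Matrix

variable {K : Type*} [Field K] [Fintype K] {L : Type*} [Field L] [Algebra K L] [IsAlgClosed L]
  (p : ℕ) [Fact p.Prime] [CharP K p] [CharP L p] {f : ℕ} {ι : Type*} [Fintype ι] [DecidableEq ι]

/-- The conclusion for one element. -/
def Good (B : List ℕ) {ι K : Type*} [Fintype ι] [DecidableEq ι] [CommRing K] (a : Matrix ι ι K) : Prop :=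
  ∃ b ∈ B, a ^ b = 1 ∧ psum a b = 0

theorem psum_prime {R : Type*} [Ring R] [Algebra K R] (a : R) : psum a p = (a - 1) ^ (p - 1) := by
  have hp : p.Prime := Fact.out
  have h : (∑ i ∈ Finset.range p, (Polynomial.X : Polynomial K) ^ i) = (Polynomial.X - 1) ^ (p - 1) := by
    refine mul_right_cancel₀ (b := (Polynomial.X - 1 : Polynomial K))
      (by rw [← Polynomial.C_1]; exact Polynomial.X_sub_C_ne_zero 1) ?_
    rw [geom_sum_mul, ← pow_succ, Nat.sub_add_cancel hp.one_le, sub_pow_char, one_pow]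
  simpa using congrArg (Polynomial.aeval a) h

omit [Fintype K] in
theorem pow_unip {n : Matrix (Fin 2) (Fin 2) K} (hn : n * n = 0) : (1 + n) ^ p = 1 := by
  have : ∀ k : ℕ, (1 + n) ^ k = 1 + (k : K) • n := by
    intro k
    induction k with
    | zero => simp
    | succ k ih =>
      rw [pow_succ, ih, add_mul, one_mul, smul_mul_assoc, mul_add, mul_one, hn, add_zero, Nat.cast_succ,
        add_smul, one_smul]
      abel
  rw [this, CharP.cast_eq_zero, zero_smul, add_zero]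

omit [Fintype K] [IsAlgClosed L] in
/-- Unipotent elements cube to zero after subtracting one in the twisted tensor square. -/
theorem rep2_unip {n : Matrix (Fin 2) (Fin 2) K} (hn : n * n = 0) :
    ((rep2 K L p f).φ (1 + n) - 1) ^ 3 = 0 := by
  set a := frobTwist K p 0 n with ha
  set b := frobTwist K p f n with hb
  have hab : ∀ k, frobTwist K p k (1 + n) = 1 + frobTwist K p k n := fun k => by
    show (iterateFrobenius K p k).mapMatrix (1 + n) = _
    rw [map_add, map_one]; rfl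
  have h0 : ∀ k, frobTwist K p k n * frobTwist K p k n = 0 := fun k => by
    rw [← map_mul, hn]
    exact map_zero (iterateFrobenius K p k).mapMatrix
  set u : Matrix (Fin 2 × Fin 2) (Fin 2 × Fin 2) K := kroneckerMap (· * ·) a (1 : Matrix (Fin 2) (Fin 2) K)
  set v : Matrix (Fin 2 × Fin 2) (Fin 2 × Fin 2) K := kroneckerMap (· * ·) (1 : Matrix (Fin 2) (Fin 2) K) b
  have he : (rep2 K L p f).φ (1 + n) - 1 = u + v + u * v := by
    show kroneckerMap (· * ·) (frobTwist K p 0 (1 + n)) (frobTwist K p f (1 + n)) - 1 = _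
    rw [hab, hab]
    ext i j
    have huv : (u * v) i j = a i.1 j.1 * b i.2 j.2 := by
      show ((kroneckerMap (· * ·) a (1 : Matrix (Fin 2) (Fin 2) K) : Matrix (Fin 2 × Fin 2) (Fin 2 × Fin 2) K) *
        kroneckerMap (· * ·) (1 : Matrix (Fin 2) (Fin 2) K) b) i j = _
      rw [← Matrix.mul_kronecker_mul, mul_one, one_mul]; rfl
    simp only [Matrix.sub_apply, Matrix.add_apply, huv]
    simp [u, v, Matrix.one_apply, Prod.ext_iff]
    split_ifs <;> simp_all <;> ring
  have hu : u * u = 0 := by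
    show kroneckerMap (· * ·) a 1 * kroneckerMap (· * ·) a 1 = _
    rw [← Matrix.mul_kronecker_mul, h0]; ext i j; simp
  have hv : v * v = 0 := by
    show kroneckerMap (· * ·) 1 b * kroneckerMap (· * ·) 1 b = _
    rw [← Matrix.mul_kronecker_mul, h0]; ext i j; simp
  have hc : v * u = u * v := by
    show kroneckerMap (· * ·) 1 b * kroneckerMap (· * ·) a 1 =
      kroneckerMap (· * ·) a 1 * kroneckerMap (· * ·) 1 b
    rw [← Matrix.mul_kronecker_mul, ← Matrix.mul_kronecker_mul, one_mul, mul_one, one_mul, mul_one]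
  have hu' : ∀ z, u * (u * z) = 0 := fun z => by rw [← mul_assoc, hu, zero_mul]
  have hv' : ∀ z, v * (v * z) = 0 := fun z => by rw [← mul_assoc, hv, zero_mul]
  have hc' : ∀ z, v * (u * z) = u * (v * z) := fun z => by rw [← mul_assoc, hc, mul_assoc]
  rw [he, pow_succ, sq]
  simp only [mul_add, add_mul, mul_assoc, hu, hv, hc, hu', hv', hc', mul_zero, zero_mul, add_zero, zero_add]

omit [IsAlgClosed L] in
theorem torus_cases {A : Matrix (Fin 2) (Fin 2) K} {x : L} (hx : x ≠ 0)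
    (ht : algebraMap K L A.trace = x + x⁻¹) {k : ℕ} (hk : A.trace ^ p ^ k = A.trace) :
    x ^ (p ^ k - 1) = 1 ∨ x ^ (p ^ k + 1) = 1 :=
  torus_of_fixed p k hx (by rw [← ht, ← map_pow, hk])

/-- Semisimple and unipotent elements. -/
theorem good_of_rep (ρ : Rep K L ι) (hK : Fintype.card K = (p ^ f) ^ 2)
    (hw : ∀ x : L, x ≠ 0 → (x ^ ((p ^ f) ^ 2 - 1) = 1 ∨ x ^ ((p ^ f) ^ 2 + 1) = 1) →
      (∃ i, ρ.w i x = 1) → (x ^ (p ^ f + 1)) ^ 2 = 1 ∨ (x ^ (p ^ f - 1)) ^ 2 = 1)
    (hunip : 3 < p → ∀ n, n * n = 0 → psum (ρ.φ (1 + n)) p = 0)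
    (A : Matrix (Fin 2) (Fin 2) K) (hA : A.det = 1) : Good (bnd p (p ^ f)) (ρ.φ A) := by
  rcases sl2_dichotomy L A hA with ⟨n, hn, hAn⟩ | ⟨x, P, hx, hsq, ht, hP, hAP⟩
  · have hφ : ρ.φ A = ρ.φ (1 + n) := by rcases hAn with h | h <;> rw [h]; exact ρ.neg _
    have hp1 : ρ.φ A ^ p = 1 := by rw [hφ, ← map_pow, pow_unip p hn, map_one]
    by_cases hp3 : p ≤ 3
    · exact ⟨p ^ 2, mem_bnd.2 (by simp [hp3]), by rw [sq]; exact (psum_char p hp1).1,
        by rw [sq]; exact (psum_char p hp1).2⟩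
    · refine ⟨p * (p ^ f + 1), mem_bnd.2 (by simp), by rw [pow_mul, hp1, one_pow], ?_⟩
      rw [psum_mul hp1, hφ, hunip (by omega) n hn, smul_zero]
  have htr : A.trace ^ p ^ (2 * f) = A.trace := by
    rw [pow_mul', ← hK, FiniteField.pow_card]
  have hQ := torus_cases p hx ht htr
  rw [pow_mul'] at hQ
  by_cases hfix : ∃ i, ρ.w i x = 1
  · rcases hw x hx hQ hfix with h | h
    · exact ⟨p * (p ^ f + 1), mem_bnd.2 (by simp), psum_char p (ρ.pow_eq_one hP hAP h)⟩
    · exact ⟨p * (p ^ f - 1), mem_bnd.2 (by simp), psum_char p (ρ.pow_eq_one hP hAP h)⟩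
  push Not at hfix
  have hpar := card_parity (F := K) p
  rw [Nat.card_eq_fintype_card, hK] at hpar
  have key : ∀ M : ℕ, x ^ M = 1 → dd p ∣ M → M / dd p ∈ bnd p (p ^ f) → Good (bnd p (p ^ f)) (ρ.φ A) := by
    intro M hM hdM hb
    have h1 : (x ^ (M / dd p)) ^ 2 = 1 := by
      by_cases h2 : p = 2
      · rw [dd, if_pos h2, Nat.div_one, hM, one_pow]
      · rw [dd, if_neg h2] at hdM ⊢
        rw [← pow_mul, Nat.div_mul_cancel hdM, hM]
    exact ⟨_, hb, ρ.pow_eq_one hP hAP h1, ρ.psum_eq_zero hP hAP (ρ.pow_eq_one hP hAP h1) hfix⟩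
  have hdd : dd p ∣ (p ^ f) ^ 2 + 1 ∧ dd p ∣ (p ^ f) ^ 2 - 1 := by
    rcases hpar with ⟨h, -⟩ | ⟨h, ho⟩
    · rw [dd, if_pos h]; exact ⟨one_dvd _, one_dvd _⟩
    · rw [dd, if_neg h]
      exact ⟨(ho.add_odd odd_one).two_dvd, (Nat.Odd.sub_odd ho odd_one).two_dvd⟩
  rcases hQ with h | h
  · exact key _ h hdd.2 (mem_bnd.2 (Or.inr (Or.inl rfl)))
  · exact key _ h hdd.1 (mem_bnd.2 (Or.inl rfl))

omit [IsAlgClosed L] in
theorem rep2_fix (x : L) (hx : x ≠ 0) (h : ∃ i, (rep2 K L p f).w i x = 1) :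
    (x ^ (p ^ f + 1)) ^ 2 = 1 ∨ (x ^ (p ^ f - 1)) ^ 2 = 1 := by
  have h1 : 1 ≤ p ^ f := Nat.one_le_pow _ _ (Fact.out : p.Prime).pos
  obtain ⟨⟨i, j⟩, h⟩ := h
  have e : x ^ (p ^ f - 1) * x = x ^ p ^ f := by rw [← pow_succ, Nat.sub_add_cancel h1]
  have hy : x ^ p ^ f ≠ 0 := pow_ne_zero _ hx
  fin_cases i <;> fin_cases j <;> simp [rep2] at h
  · exact Or.inl (by rw [show x ^ (p ^ f + 1) = 1 by rw [pow_succ']; exact h, one_pow])
  · refine Or.inr ?_
    have h' : x ^ (p ^ f - 1) * x = 1 * x := by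
      rw [e, one_mul]; field_simp at h; linear_combination -h
    rw [mul_right_cancel₀ hx h', one_pow]
  · refine Or.inr ?_
    have h' : x ^ (p ^ f - 1) * x = 1 * x := by
      rw [e, one_mul]; field_simp at h; linear_combination h
    rw [mul_right_cancel₀ hx h', one_pow]
  · refine Or.inl ?_
    field_simp at h
    rw [show x ^ (p ^ f + 1) = 1 by rw [pow_succ']; linear_combination -h, one_pow]

omit [IsAlgClosed L] in
theorem rep4_fix [CharP L 3] (hf : Even f) (x : L) (hx : x ≠ 0)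
    (hQ : x ^ ((3 ^ f) ^ 2 - 1) = 1 ∨ x ^ ((3 ^ f) ^ 2 + 1) = 1)
    [Fact (Nat.Prime 3)] [CharP K 3]
    (h : ∃ i, (rep4 K L 3 f).w i x = 1) :
    (x ^ (3 ^ f + 1)) ^ 2 = 1 ∨ (x ^ (3 ^ f - 1)) ^ 2 = 1 := by
  set q := 3 ^ f with hq
  have hq1 : 1 ≤ q := Nat.one_le_pow _ _ (by norm_num)
  set μ := x ^ 2 with hμ
  have hμ0 : μ ≠ 0 := pow_ne_zero _ hx
  suffices hsuf : μ ^ (q + 1) = 1 ∨ μ ^ (q - 1) = 1 by
    rw [hμ] at hsuf
    rwa [← pow_mul, ← pow_mul, mul_comm (q + 1), mul_comm (q - 1), pow_mul, pow_mul]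
  have hqe : 2 ∣ q + 1 := (((show Odd 3 by decide).pow : Odd q).add_odd odd_one).two_dvd
  have e0 : ∀ y : L, y ≠ 0 → y * y⁻¹ = 1 := fun y hy => mul_inv_cancel₀ hy
  -- the exponents of `μ`
  have hcase : μ ^ 2 = 1 ∨ μ * μ ^ q = 1 ∨ μ = μ ^ q ∨ μ ^ 2 * μ ^ q = 1 ∨ μ ^ 2 = μ ^ q := by
    obtain ⟨⟨⟨i, j⟩, ⟨k, l⟩⟩, h⟩ := h
    have hxq : x ^ q * x ^ q = μ ^ q := by rw [hμ, ← mul_pow, sq]
    fin_cases i <;> fin_cases j <;> fin_cases k <;> fin_cases l <;>
      simp [rep4, ← hq, hxq] at h <;> field_simp at h <;> simp only [hμ] at * <;>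
      first
      | (left; linear_combination h; done)
      | (left; linear_combination -h; done)
      | (left; linear_combination (x ^ 2 + 1) * h; done)
      | (left; linear_combination -(x ^ 2 + 1) * h; done)
      | (right; left; linear_combination h; done)
      | (right; left; linear_combination -h; done)
      | (right; right; left; linear_combination h; done)
      | (right; right; left; linear_combination -h; done)
      | (right; right; right; left; linear_combination h; done)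
      | (right; right; right; left; linear_combination -h; done)
      | (right; right; right; right; linear_combination h; done)
      | (right; right; right; right; linear_combination -h; done)
  have hμQ : μ ^ q ^ 2 = μ ∨ μ ^ q ^ 2 * μ = 1 := by
    rcases hQ with h | h
    · left
      have : x ^ q ^ 2 = x := by
        conv_lhs => rw [← Nat.sub_add_cancel (Nat.one_le_pow 2 q hq1), pow_succ, h, one_mul]
      rw [hμ, ← pow_mul, mul_comm, pow_mul, this]
    · right
      rw [hμ, ← pow_mul, ← pow_add, ← Nat.mul_succ, mul_comm, pow_mul, h, one_pow]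
  have hfin : μ ^ q ^ 2 = μ ^ 4 → μ = 1 := by
    intro h4
    rw [h4] at hμQ
    rcases hμQ with h | h
    · have h3 : μ ^ 3 = 1 := mul_right_cancel₀ hμ0 (by rw [← pow_succ, h, one_mul])
      have : (μ - 1) ^ 3 = 0 := by rw [sub_pow_char, one_pow, h3, sub_self]
      exact sub_eq_zero.1 (pow_eq_zero_iff (by norm_num) |>.1 this)
    · have h5 : μ ^ 5 = 1 := by rw [pow_succ]; exact h
      have hmod : (q ^ 2 + 1) % 5 = 2 := by
        obtain ⟨g, rfl⟩ := hf
        rw [hq, ← pow_mul, show (g + g) * 2 = 4 * g by ring, pow_mul, Nat.add_mod, Nat.pow_mod]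
        norm_num
      have h2 : μ ^ (q ^ 2 + 1) = 1 := by
        rw [pow_succ, h4]; exact h
      have h22 : μ ^ 2 = 1 := by
        rw [← Nat.div_add_mod (q ^ 2 + 1) 5, pow_add, pow_mul, h5, one_pow, one_mul, hmod] at h2
        exact h2
      calc μ = μ ^ 5 := by rw [show μ ^ 5 = μ * (μ ^ 2) ^ 2 by ring, h22, one_pow, mul_one]
        _ = 1 := h5
  rcases hcase with h | h | h | h | h
  · left
    obtain ⟨c, hc⟩ := hqe
    rw [hc, pow_mul, h, one_pow]
  · left; rw [pow_succ']; exact h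
  · right
    refine mul_right_cancel₀ hμ0 ?_
    rw [← pow_succ, Nat.sub_add_cancel hq1, ← h, one_mul]
  · have h4 : μ ^ q ^ 2 = μ ^ 4 := by
      have h' : μ ^ q = (μ ^ 2)⁻¹ := (inv_eq_of_mul_eq_one_right h).symm
      rw [sq q, pow_mul, h', inv_pow, ← pow_mul, mul_comm 2 q, pow_mul, h', inv_pow, inv_inv, ← pow_mul]
    exact Or.inl (by rw [hfin h4, one_pow])
  · have h4 : μ ^ q ^ 2 = μ ^ 4 := by
      rw [sq q, pow_mul, ← h, ← pow_mul, mul_comm 2 q, pow_mul, ← h, ← pow_mul]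
    exact Or.inl (by rw [hfin h4, one_pow])

end Cfsg.Agent.H69.Psp4
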