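import Cfsg.Agent.H69.Psp4.Upper2
import Cfsg.Agent.H69.Psp4.Module

/-!
The witness groups `V^k ⋊ PSL₂(q²)(.2)` have the spectrum of `PSp(4,q)`.
-/

set_option autoImplicit false
set_option linter.unusedSectionVars false

namespace Cfsg.Agent.H69.Psp4

open Matrix

variable {K : Type*} [Field K] [Fintype K] {L : Type*} [Field L] [Algebra K L] [IsAlgClosed L]
  (p : ℕ) [Fact p.Prime] [CharP K p] [CharP L p] {f : ℕ} {ι : Type*} [Fintype ι] [DecidableEq ι]

/-- The matrix of an element of `SL₂`. -/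
def coeHom (R : Type*) [CommRing R] : SpecialLinearGroup (Fin 2) R →* Matrix (Fin 2) (Fin 2) R where
  toFun A := A.1
  map_one' := rfl
  map_mul' _ _ := rfl

/-- `SL₂` in a representation. -/
noncomputable def repHom (ρ : Rep K L ι) : SpecialLinearGroup (Fin 2) K →* GL ι K :=
  (ρ.φ.comp (coeHom K)).toHomUnits

theorem repHom_val (ρ : Rep K L ι) (A : SpecialLinearGroup (Fin 2) K) :
    (repHom ρ A : Matrix ι ι K) = ρ.φ A.1 := rfl

/-- The diagonal element of `SL₂`. -/
def dSL (x : K) (hx : x ≠ 0) : SpecialLinearGroup (Fin 2) K :=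
  ⟨dmat x, by simp [dmat, Matrix.det_diagonal, Fin.prod_univ_two, hx]⟩

theorem dmat_map (x : K) : (dmat x).map (algebraMap K L) = dmat (algebraMap K L x) := by
  ext i j
  fin_cases i <;> fin_cases j <;> simp [dmat, map_inv₀]

theorem exists_order_root (M : ℕ) (hM : ¬ p ∣ M) : ∃ z : L, orderOf z = M := by
  have : NeZero (M : L) := ⟨fun h => hM ((CharP.cast_eq_zero_iff L p M).1 h)⟩
  obtain ⟨z, hz⟩ := HasEnoughRootsOfUnity.exists_primitiveRoot L M
  exact ⟨z, hz.eq_orderOf.symm⟩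

/-- The tori of order `(Q ± 1)/gcd(2,q-1)`. -/
theorem exists_torus_elt (ρ : Rep K L ι) (hK : Fintype.card K = (p ^ f) ^ 2) (hf : 1 ≤ f) (M : ℕ)
    (hM : M = (p ^ f) ^ 2 + 1 ∨ M = (p ^ f) ^ 2 - 1) :
    ∃ A : SpecialLinearGroup (Fin 2) K, M / dd p ∣ orderOf (repHom ρ A) := by
  have hp : p.Prime := Fact.out
  have hq : 2 ≤ p ^ f := hp.two_le.trans (Nat.le_self_pow (by omega) p)
  have hQ4 : 4 ≤ (p ^ f) ^ 2 := Nat.pow_le_pow_left hq 2
  have hpQ : p ∣ (p ^ f) ^ 2 := dvd_pow (dvd_pow_self p (by omega)) two_ne_zero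
  have hpM : ¬ p ∣ M := by
    intro h
    refine hp.one_lt.ne' (Nat.dvd_one.1 ?_)
    rcases hM with rfl | rfl
    · exact (Nat.dvd_add_right hpQ).1 h
    · have := Nat.dvd_sub hpQ h
      rwa [Nat.sub_sub_self (by omega)] at this
  obtain ⟨z, hz⟩ := exists_order_root (L := L) p M hpM
  have hM3 : 3 ≤ M := by omega
  have hz0 : z ≠ 0 := by
    rintro rfl
    rw [orderOf_zero] at hz
    omega
  have hzQ : (z + z⁻¹) ^ Fintype.card K = z + z⁻¹ := by
    rw [hK, ← pow_mul, add_pow_char_pow, pow_mul, inv_pow]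
    have hzM : z ^ M = 1 := hz ▸ pow_orderOf_eq_one z
    rcases hM with rfl | rfl
    · rw [pow_succ] at hzM
      rw [eq_inv_of_mul_eq_one_left hzM, inv_inv, add_comm]
    · have : z ^ ((p ^ f) ^ 2) = z := by
        rw [← Nat.sub_add_cancel (show 1 ≤ (p ^ f) ^ 2 by omega), pow_succ, hzM, one_mul]
      rw [this]
  obtain ⟨t, ht⟩ := mem_range_of_pow_card hzQ
  have hdet : (!![0, -1; 1, t] : Matrix (Fin 2) (Fin 2) K).det = 1 := by simp [Matrix.det_fin_two]
  have hzsq : z ^ 2 ≠ 1 := fun h => by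
    have := Nat.le_of_dvd two_pos (hz ▸ orderOf_dvd_of_pow_eq_one h)
    omega
  refine ⟨⟨_, hdet⟩, ?_⟩
  rcases sl2_dichotomy L _ hdet with ⟨n, hn, hAn⟩ | ⟨x, P, hx, -, htr, hP, hAP⟩
  · exfalso
    obtain ⟨ε, hε, hne⟩ : ∃ ε : K, ε * ε = 1 ∧ n = ε • (!![0, -1; 1, t] : Matrix (Fin 2) (Fin 2) K) - 1 := by
      rcases hAn with h | h
      · exact ⟨1, one_mul 1, by rw [h, one_smul]; abel⟩
      · exact ⟨-1, by norm_num, by rw [h, neg_smul, one_smul, neg_neg]; abel⟩
    have h10 := congrFun (congrFun hn 1) 0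
    rw [hne] at h10
    simp [Matrix.mul_apply, Fin.sum_univ_two] at h10
    have ht2 : t = 2 * ε := by linear_combination h10 - t * hε
    have he : (algebraMap K L ε) * algebraMap K L ε = 1 := by rw [← map_mul, hε, map_one]
    rw [ht2, map_mul, map_ofNat] at ht
    set e := algebraMap K L ε
    have hzi : z * z⁻¹ = 1 := mul_inv_cancel₀ hz0
    have : (z - e) * (z - e) = 0 := by linear_combination he + (-z) * ht - hzi
    rw [sub_eq_zero.1 (mul_self_eq_zero.1 this), sq] at hzsq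
    exact hzsq he
  have hord : orderOf x = M := by
    have htr' : x + x⁻¹ = z + z⁻¹ := by
      rw [← htr, ← ht]; congr 1; simp [Matrix.trace_fin_two]
    have h2 : (x - z) * (x * z - 1) = 0 := by
      have e1 : x * x⁻¹ = 1 := mul_inv_cancel₀ hx
      have e2 : z * z⁻¹ = 1 := mul_inv_cancel₀ hz0
      linear_combination (x * z) * htr' - z * e1 + x * e2
    rcases mul_eq_zero.1 h2 with h | h
    · rw [sub_eq_zero.1 h, hz]
    · rw [eq_inv_of_mul_eq_one_left (sub_eq_zero.1 h)]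
      exact (orderOf_eq_orderOf_iff.2 fun n => by rw [inv_pow, inv_eq_one]).trans hz
  set g := repHom ρ ⟨_, hdet⟩
  set j := orderOf g
  have hj : ρ.φ (!![0, -1; 1, t]) ^ j = 1 := by
    rw [← repHom_val ρ ⟨_, hdet⟩, ← Units.val_pow_eq_pow_val, pow_orderOf_eq_one, Units.val_one]
  have h2 := ρ.sq_eq_one_of_pow hx hP hAP hj
  unfold dd
  split_ifs with hp2
  · subst hp2
    rw [Nat.div_one, ← hord]
    refine orderOf_dvd_of_pow_eq_one ?_
    have : (x ^ j - 1) ^ 2 = 0 := by rw [sub_pow_char, h2, one_pow, sub_self]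
    exact sub_eq_zero.1 (pow_eq_zero_iff two_ne_zero |>.1 this)
  · rw [← pow_mul] at h2
    have hd := hord ▸ orderOf_dvd_of_pow_eq_one h2
    have h2M : 2 ∣ M := by
      have ho : Odd ((p ^ f) ^ 2) := ((hp.odd_of_ne_two hp2).pow).pow
      rcases hM with rfl | rfl
      · exact (ho.add_odd odd_one).two_dvd
      · exact (Nat.Odd.sub_odd ho odd_one).two_dvd
    exact Nat.dvd_of_mul_dvd_mul_left two_pos (by rw [Nat.mul_div_cancel' h2M, mul_comm]; exact hd)

/-- A diagonal element with a fixed vector. -/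
theorem exists_fixed_elt (ρ : Rep K L ι) (n : ℕ) (hn : (n : K) ≠ 0) (x : K) (hx : x ≠ 0)
    (hxo : orderOf x = dd p * n) (i₀ : ι)
    (hentry : ∀ k : ℕ, ρ.φ (dmat (x ^ k)) i₀ i₀ = 1) :
    ∃ g ∈ (repHom ρ).range, p * n ∣ p * orderOf g ∧
      psum (g : Matrix ι ι K) (orderOf g) ≠ 0 := by
  set A := dSL x hx
  set g := repHom ρ A
  have hAP : (A.1).map (algebraMap K L) * (1 : Matrix (Fin 2) (Fin 2) L) = 1 * dmat (algebraMap K L x) := by
    rw [mul_one, one_mul]; exact dmat_map x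
  have hxn : (algebraMap K L x ^ n) ^ 2 = 1 := by
    rw [← pow_mul, ← map_pow]
    have : x ^ (n * 2) = 1 := orderOf_dvd_iff_pow_eq_one.1 (by
      rw [hxo, mul_comm]; refine Nat.mul_dvd_mul_left n ?_; unfold dd; split_ifs <;> norm_num)
    rw [this, map_one]
  have hgn : g ^ n = 1 := Units.ext (by
    rw [Units.val_pow_eq_pow_val, repHom_val, Units.val_one]; exact ρ.pow_eq_one isUnit_one hAP hxn)
  have hno : n ∣ orderOf g := by
    have hj : ρ.φ A.1 ^ orderOf g = 1 := by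
      rw [← repHom_val, ← Units.val_pow_eq_pow_val, pow_orderOf_eq_one, Units.val_one]
    have h2 := ρ.sq_eq_one_of_pow (by simpa using hx) isUnit_one hAP hj
    rw [← map_pow, ← map_pow, map_eq_one_iff _ (algebraMap K L).injective] at h2
    unfold dd at hxo
    split_ifs at hxo with hp2
    · subst hp2
      rw [one_mul] at hxo
      rw [← hxo]
      refine orderOf_dvd_of_pow_eq_one ?_
      have : (x ^ orderOf g - 1) ^ 2 = 0 := by rw [sub_pow_char, h2, one_pow, sub_self]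
      exact sub_eq_zero.1 (pow_eq_zero_iff two_ne_zero |>.1 this)
    · rw [← pow_mul] at h2
      have := orderOf_dvd_of_pow_eq_one h2
      rw [hxo, mul_comm (orderOf g)] at this
      exact Nat.dvd_of_mul_dvd_mul_left two_pos this
  have hord : orderOf g = n := Nat.dvd_antisymm (orderOf_dvd_of_pow_eq_one hgn) hno
  refine ⟨g, ⟨A, rfl⟩, by rw [hord], fun h => hn ?_⟩
  rw [hord] at h
  have h' := congrFun (congrFun h i₀) i₀
  rw [psum, Matrix.sum_apply, Matrix.zero_apply] at h'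
  rw [Finset.sum_eq_card_nsmul (b := (1 : K)) fun k _ => by
    rw [repHom_val, ← map_pow]
    show ρ.φ (dmat x ^ k) i₀ i₀ = 1
    rw [dmat_pow]
    exact hentry k, Finset.card_range, nsmul_one] at h'
  exact h'

theorem exists_units_order (n : ℕ) (hn : n ∣ Fintype.card K - 1) :
    ∃ x : K, x ≠ 0 ∧ orderOf x = n := by
  obtain ⟨u, hu⟩ := IsCyclic.exists_ofOrder_eq_natCard (α := Kˣ)
  rw [Nat.card_units, Nat.card_eq_fintype_card] at hu
  refine ⟨((u ^ (orderOf u / n) : Kˣ) : K), Units.ne_zero _, ?_⟩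
  rw [orderOf_units, orderOf_pow_orderOf_div (orderOf_pos u).ne' (hu.symm ▸ hn)]

theorem natCast_ne_zero_of_near (hf : 1 ≤ f) (n : ℕ) (hn : n = p ^ f + 1 ∨ n = p ^ f - 1) :
    (n : K) ≠ 0 := by
  have hp : p.Prime := Fact.out
  rw [Ne, CharP.cast_eq_zero_iff K p]
  intro h
  refine hp.one_lt.ne' (Nat.dvd_one.1 ?_)
  have hpq : p ∣ p ^ f := dvd_pow_self p (by omega)
  rcases hn with rfl | rfl
  · exact (Nat.dvd_add_right hpq).1 h
  · have := Nat.dvd_sub hpq h
    rwa [Nat.sub_sub_self (Nat.one_le_pow _ _ hp.pos)] at this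

/-- The parts of the lower bound common to all cases. -/
theorem low_tori (ρ : Rep K L ι) (hK : Fintype.card K = (p ^ f) ^ 2) (hf : 1 ≤ f)
    (G : Subgroup (GL ι K)) (hG : (repHom ρ).range ≤ G)
    (hmix : ∀ n, n = p ^ f + 1 ∨ n = p ^ f - 1 →
      ∃ g ∈ G, p * n ∣ p * orderOf g ∧ psum (g : Matrix ι ι K) (orderOf g) ≠ 0)
    (hsq : p ≤ 3 → ∃ g ∈ G, p ^ 2 ∣ p * orderOf g ∧ psum (g : Matrix ι ι K) (orderOf g) ≠ 0) :
    ∀ b ∈ bnd p (p ^ f), ∃ g ∈ G, b ∣ orderOf g ∨ (b ∣ p * orderOf g ∧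
      psum (g : Matrix ι ι K) (orderOf g) ≠ 0) := by
  intro b hb
  rcases mem_bnd.1 hb with rfl | rfl | rfl | rfl | ⟨hp3, rfl⟩
  · obtain ⟨A, hA⟩ := exists_torus_elt p ρ hK hf _ (Or.inl rfl)
    exact ⟨_, hG ⟨A, rfl⟩, Or.inl hA⟩
  · obtain ⟨A, hA⟩ := exists_torus_elt p ρ hK hf _ (Or.inr rfl)
    exact ⟨_, hG ⟨A, rfl⟩, Or.inl hA⟩
  · obtain ⟨g, hg, h⟩ := hmix _ (Or.inl rfl); exact ⟨g, hg, Or.inr h⟩
  · obtain ⟨g, hg, h⟩ := hmix _ (Or.inr rfl); exact ⟨g, hg, Or.inr h⟩
  · obtain ⟨g, hg, h⟩ := hsq hp3; exact ⟨g, hg, Or.inr h⟩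

/-- The unipotent element of `SL₂`. -/
def uSL2 (K : Type*) [Field K] : SpecialLinearGroup (Fin 2) K :=
  ⟨!![1, 1; 0, 1], by simp [Matrix.det_fin_two]⟩

theorem uSL2_pow (k : ℕ) : (uSL2 K).1 ^ k = !![1, (k : K); 0, 1] := by
  induction k with
  | zero => ext i j; fin_cases i <;> fin_cases j <;> simp
  | succ k ih =>
    rw [pow_succ, ih]
    ext i j
    fin_cases i <;> fin_cases j <;> simp [uSL2, Matrix.mul_apply, Fin.sum_univ_two, add_comm]

theorem exists_sq_elt (ρ : Rep K L ι) (h : psum (ρ.φ (uSL2 K).1) p ≠ 0) :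
    ∃ g ∈ (repHom ρ).range, p ^ 2 ∣ p * orderOf g ∧ psum (g : Matrix ι ι K) (orderOf g) ≠ 0 := by
  have hp : p.Prime := Fact.out
  set g := repHom ρ (uSL2 K)
  have hgp : g ^ p = 1 := Units.ext (by
    rw [Units.val_pow_eq_pow_val, repHom_val, Units.val_one, ← map_pow, uSL2_pow, CharP.cast_eq_zero,
      show (!![1, 0; 0, 1] : Matrix (Fin 2) (Fin 2) K) = 1 from
        (by ext i j; fin_cases i <;> fin_cases j <;> simp), map_one])
  have hg1 : g ≠ 1 := fun e => h (by
    rw [← repHom_val]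
    show psum (g : Matrix ι ι K) p = 0
    rw [e, Units.val_one, psum]
    simp [← Nat.smul_one_eq_cast, ← Nat.cast_smul_eq_nsmul K, CharP.cast_eq_zero K p])
  have hord : orderOf g = p := orderOf_eq_prime hgp hg1
  exact ⟨g, ⟨_, rfl⟩, by rw [hord, sq], by rw [hord]; exact h⟩

/-- `q` even. -/
theorem witness_two [CharP K 2] [CharP L 2] [Fact (Nat.Prime 2)] (hK : Fintype.card K = (2 ^ f) ^ 2)
    (hf : 1 ≤ f) (N : ℕ) :
    ∃ (H : Type) (_ : Group H) (_ : Fintype H), N < Fintype.card H ∧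
      Set.range (orderOf : H → ℕ) = divSet (bnd 2 (2 ^ f)) := by
  let ρ := rep2 K L 2 f
  refine exists_large_spectrum 2 (repHom ρ).range (bnd 2 (2 ^ f)) ?_ ?_ N
  · rintro _ ⟨A, rfl⟩
    exact good_of_rep 2 ρ hK (fun x hx _ h => rep2_fix 2 x hx h) (fun h => absurd h (by norm_num)) A.1 A.2
  · refine low_tori 2 ρ hK hf _ le_rfl (fun n hn => ?_) fun _ => exists_sq_elt 2 ρ ?_
    · have h1 : 1 ≤ 2 ^ f := Nat.one_le_two_pow
      have hdvd : dd 2 * n ∣ Fintype.card K - 1 := by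
        rw [hK, dd, if_pos rfl, one_mul]
        have e : (2 ^ f) ^ 2 - 1 = (2 ^ f + 1) * (2 ^ f - 1) := by simpa using Nat.sq_sub_sq (2 ^ f) 1
        rw [e]
        rcases hn with rfl | rfl
        exacts [dvd_mul_right _ _, dvd_mul_left _ _]
      obtain ⟨x, hx, hxo⟩ := exists_units_order n (by simpa [dd] using hdvd)
      have hxn : x ^ n = 1 := hxo ▸ pow_orderOf_eq_one x
      rcases hn with rfl | rfl
      · refine exists_fixed_elt 2 ρ _ (natCast_ne_zero_of_near 2 hf _ (Or.inl rfl)) x hx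
          (by rw [hxo, dd, if_pos rfl, one_mul]) ((0, 0) : Fin 2 × Fin 2) fun k => ?_
        show kroneckerMap (· * ·) (frobTwist K 2 0 (dmat (x ^ k))) (frobTwist K 2 f (dmat (x ^ k))) (0, 0) (0, 0) = 1
        rw [frobTwist_dmat, frobTwist_dmat]
        simp [dmat, Matrix.kroneckerMap_apply]
        rw [← pow_mul x k, ← pow_add, show k + k * 2 ^ f = (2 ^ f + 1) * k by ring, pow_mul, hxn, one_pow]
      · refine exists_fixed_elt 2 ρ _ (natCast_ne_zero_of_near 2 hf _ (Or.inr rfl)) x hx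
          (by rw [hxo, dd, if_pos rfl, one_mul]) ((0, 1) : Fin 2 × Fin 2) fun k => ?_
        show kroneckerMap (· * ·) (frobTwist K 2 0 (dmat (x ^ k))) (frobTwist K 2 f (dmat (x ^ k))) (0, 1) (0, 1) = 1
        rw [frobTwist_dmat, frobTwist_dmat]
        simp [dmat, Matrix.kroneckerMap_apply]
        have hx1 : x ^ 2 ^ f = x := by
          rw [← Nat.sub_add_cancel h1, pow_succ, hxn, one_mul]
        rw [← pow_mul x k, mul_comm k, pow_mul, hx1, mul_inv_cancel₀ (pow_ne_zero _ hx)]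
    · intro h
      have h' := congrFun (congrFun h ((0, 0) : Fin 2 × Fin 2)) (1, 1)
      rw [psum, Finset.sum_range_succ, Finset.sum_range_one, pow_zero, pow_one] at h'
      simp [ρ, rep2, tw, frobTwist_apply, uSL2] at h'

/-- `q` a power of three with even exponent. -/
theorem witness_three [CharP K 3] [CharP L 3] [Fact (Nat.Prime 3)] (hK : Fintype.card K = (3 ^ f) ^ 2)
    (hf : 1 ≤ f) (hfe : Even f) (N : ℕ) :
    ∃ (H : Type) (_ : Group H) (_ : Fintype H), N < Fintype.card H ∧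
      Set.range (orderOf : H → ℕ) = divSet (bnd 3 (3 ^ f)) := by
  let ρ := rep4 K L 3 f
  refine exists_large_spectrum 3 (repHom ρ).range (bnd 3 (3 ^ f)) ?_ ?_ N
  · rintro _ ⟨A, rfl⟩
    exact good_of_rep 3 ρ hK (fun x hx hQ h => rep4_fix hfe x hx hQ h) (fun h => absurd h (by norm_num))
      A.1 A.2
  · refine low_tori 3 ρ hK hf _ le_rfl (fun n hn => ?_) fun _ => exists_sq_elt 3 ρ ?_
    · set q := 3 ^ f with hq
      have h1 : 1 ≤ q := Nat.one_le_pow _ _ (by norm_num)
      have ho : Odd q := (show Odd 3 by decide).pow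
      have hdvd : dd 3 * n ∣ Fintype.card K - 1 := by
        rw [hK, dd, if_neg (by norm_num)]
        have e : q ^ 2 - 1 = (q + 1) * (q - 1) := by simpa using Nat.sq_sub_sq q 1
        rw [e, mul_comm 2]
        rcases hn with rfl | rfl
        · exact Nat.mul_dvd_mul_left _ (Nat.Odd.sub_odd ho odd_one).two_dvd
        · rw [mul_comm (q + 1)]; exact Nat.mul_dvd_mul_left _ (ho.add_odd odd_one).two_dvd
      obtain ⟨x, hx, hxo⟩ := exists_units_order _ hdvd
      have hxn : x ^ (2 * n) = 1 := by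
        rw [show 2 * n = dd 3 * n by rw [dd, if_neg (by norm_num)], ← hxo, pow_orderOf_eq_one]
      rcases hn with rfl | rfl
      · refine exists_fixed_elt 3 ρ _ (natCast_ne_zero_of_near 3 hf _ (Or.inl rfl)) x hx hxo
          (((1, 0), (0, 0)) : (Fin 2 × Fin 2) × Fin 2 × Fin 2) fun k => ?_
        show (frobTwist K 3 0 (dmat (x ^ k)) 1 1 * frobTwist K 3 1 (dmat (x ^ k)) 0 0) *
          (frobTwist K 3 f (dmat (x ^ k)) 0 0 * frobTwist K 3 f (dmat (x ^ k)) 0 0) = 1
        rw [frobTwist_dmat, frobTwist_dmat, frobTwist_dmat]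
        simp [dmat, ← hq]
        have hy : x ^ k ≠ 0 := pow_ne_zero _ hx
        have hy2 : (x ^ k) ^ (2 * (q + 1)) = 1 := by rw [← pow_mul, mul_comm, pow_mul, hxn, one_pow]
        field_simp
        linear_combination hy2
      · refine exists_fixed_elt 3 ρ _ (natCast_ne_zero_of_near 3 hf _ (Or.inr rfl)) x hx hxo
          (((1, 0), (1, 1)) : (Fin 2 × Fin 2) × Fin 2 × Fin 2) fun k => ?_
        show (frobTwist K 3 0 (dmat (x ^ k)) 1 1 * frobTwist K 3 1 (dmat (x ^ k)) 0 0) *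
          (frobTwist K 3 f (dmat (x ^ k)) 1 1 * frobTwist K 3 f (dmat (x ^ k)) 1 1) = 1
        rw [frobTwist_dmat, frobTwist_dmat, frobTwist_dmat]
        simp [dmat, ← hq]
        have hy : x ^ k ≠ 0 := pow_ne_zero _ hx
        have hy2 : (x ^ k) ^ (2 * (q - 1)) = 1 := by rw [← pow_mul, mul_comm, pow_mul, hxn, one_pow]
        have hy3 : ((x ^ k) ^ q) ^ 2 = (x ^ k) ^ 2 := by
          have e : q * 2 = 2 * (q - 1) + 2 := by omega
          rw [← pow_mul, e, pow_add, hy2, one_mul]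
        field_simp
        exact hy3.symm
    · intro h
      have h' := congrFun (congrFun h (((0, 0), (0, 0)) : (Fin 2 × Fin 2) × Fin 2 × Fin 2)) ((1, 1), (0, 0))
      rw [psum, Finset.sum_range_succ, Finset.sum_range_succ, Finset.sum_range_one, pow_zero, pow_one,
        ← map_pow, uSL2_pow] at h'
      simp [ρ, rep4, tw, frobTwist_apply, uSL2] at h'
      have h3 : (3 : K) = 0 := CharP.cast_eq_zero K 3
      exact one_ne_zero (α := K) (by linear_combination -h' + 6 * h3)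

/-- Swapping the tensor factors. -/
def swapMat (K : Type*) [Field K] : Matrix (Fin 2 × Fin 2) (Fin 2 × Fin 2) K :=
  (1 : Matrix (Fin 2 × Fin 2) (Fin 2 × Fin 2) K).submatrix Prod.swap id

theorem swapMat_mul (M : Matrix (Fin 2 × Fin 2) (Fin 2 × Fin 2) K) :
    swapMat K * M = M.submatrix Prod.swap id := by
  ext i j
  simp [swapMat, Matrix.mul_apply, Matrix.one_apply, Prod.swap_swap]

theorem mul_swapMat (M : Matrix (Fin 2 × Fin 2) (Fin 2 × Fin 2) K) :
    M * swapMat K = M.submatrix id Prod.swap := by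
  ext i j
  rw [Matrix.mul_apply, Finset.sum_eq_single j.swap (fun y _ hy => by
    rw [swapMat, Matrix.submatrix_apply, id, Matrix.one_apply,
      if_neg (fun h => hy (by rw [← h, Prod.swap_swap])), mul_zero]) (by simp)]
  simp [swapMat, Matrix.one_apply]

theorem swapMat_sq : swapMat K * swapMat K = 1 := by
  rw [swapMat_mul]
  ext i j
  simp [swapMat, Matrix.one_apply, Prod.swap_swap]

/-- The swap as a unit. -/
def swapUnit (K : Type*) [Field K] [Fintype K] : GL (Fin 2 × Fin 2) K :=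
  ⟨swapMat K, swapMat K, swapMat_sq, swapMat_sq⟩

/-- The Frobenius of order two. -/
def sigmaSL (A : SpecialLinearGroup (Fin 2) K) (f : ℕ) : SpecialLinearGroup (Fin 2) K :=
  SpecialLinearGroup.map (iterateFrobenius K p f) A

theorem swap_conj (hK : Fintype.card K = (p ^ f) ^ 2) (A : SpecialLinearGroup (Fin 2) K) :
    swapUnit K * repHom (rep2 K L p f) A = repHom (rep2 K L p f) (sigmaSL p A f) * swapUnit K := by
  refine Units.ext ?_
  rw [Units.val_mul, Units.val_mul]
  show swapMat K * _ = _ * swapMat K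
  rw [swapMat_mul, mul_swapMat]
  ext ⟨i, j⟩ ⟨k, l⟩
  show frobTwist K p 0 A.1 j k * frobTwist K p f A.1 i l =
    frobTwist K p 0 (sigmaSL p A f).1 i l * frobTwist K p f (sigmaSL p A f).1 j k
  simp only [frobTwist_apply, pow_zero, pow_one]
  show _ = A.1 i l ^ p ^ f * (A.1 j k ^ p ^ f) ^ p ^ f
  rw [← pow_mul, ← sq (p ^ f), ← hK, FiniteField.pow_card]
  ring

/-- `PSL₂(q²).2` in the twisted tensor square. -/
noncomputable def extGroup (L : Type*) [Field L] [Algebra K L] [IsAlgClosed L] [CharP L p] (hK : Fintype.card K = (p ^ f) ^ 2) : Subgroup (GL (Fin 2 × Fin 2) K) where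
  carrier := {g | ∃ A, g = repHom (rep2 K L p f) A ∨ g = repHom (rep2 K L p f) A * swapUnit K}
  one_mem' := ⟨1, Or.inl (map_one _).symm⟩
  mul_mem' := by
    have hs : swapUnit K * swapUnit K = 1 := Units.ext swapMat_sq
    rintro _ _ ⟨A, rfl | rfl⟩ ⟨B, rfl | rfl⟩
    · exact ⟨A * B, Or.inl (map_mul _ _ _).symm⟩
    · exact ⟨A * B, Or.inr (by rw [map_mul, mul_assoc])⟩
    · refine ⟨A * sigmaSL p B f, Or.inr ?_⟩
      rw [mul_assoc, swap_conj p hK, map_mul, mul_assoc]
    · refine ⟨A * sigmaSL p B f, Or.inl ?_⟩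
      rw [mul_assoc, ← mul_assoc (swapUnit K), swap_conj p hK, mul_assoc, hs, mul_one, map_mul]
  inv_mem' := by
    rintro _ ⟨A, rfl | rfl⟩
    · exact ⟨A⁻¹, Or.inl (map_inv _ _).symm⟩
    · refine ⟨sigmaSL p A⁻¹ f, Or.inr ?_⟩
      have hs : (swapUnit K)⁻¹ = swapUnit K := inv_eq_of_mul_eq_one_right (Units.ext swapMat_sq)
      rw [_root_.mul_inv_rev, hs, ← map_inv, swap_conj p hK]

theorem ext_sq (hK : Fintype.card K = (p ^ f) ^ 2) (A : SpecialLinearGroup (Fin 2) K) :
    (repHom (rep2 K L p f) A * swapUnit K) ^ 2 = repHom (rep2 K L p f) (A * sigmaSL p A f) := by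
  have hs : swapUnit K * swapUnit K = 1 := Units.ext swapMat_sq
  rw [sq, mul_assoc, ← mul_assoc (swapUnit K), swap_conj p hK, mul_assoc, hs, mul_one, map_mul]

theorem trace_fixed (hK : Fintype.card K = (p ^ f) ^ 2) (A : SpecialLinearGroup (Fin 2) K) :
    (A * sigmaSL p A f).1.trace ^ p ^ f = (A * sigmaSL p A f).1.trace := by
  show (A.1 * (sigmaSL p A f).1).trace ^ p ^ f = (A.1 * (sigmaSL p A f).1).trace
  simp only [sigmaSL, Matrix.trace_fin_two, Matrix.mul_apply, Fin.sum_univ_two]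
  simp only [SpecialLinearGroup.map_apply_coe, RingHom.mapMatrix_apply, Matrix.map_apply,
    iterateFrobenius_def]
  have hQ : ∀ y : K, (y ^ p ^ f) ^ p ^ f = y := fun y => by
    rw [← pow_mul, ← sq, ← hK, FiniteField.pow_card]
  simp only [add_pow_char_pow, mul_pow, hQ]
  ring

theorem coset_ne (hK : Fintype.card K = (p ^ f) ^ 2) (A B : SpecialLinearGroup (Fin 2) K) :
    repHom (rep2 K L p f) A * swapUnit K ≠ repHom (rep2 K L p f) B := by
  intro h
  have h' : swapUnit K = repHom (rep2 K L p f) (A⁻¹ * B) := by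
    rw [map_mul, map_inv, ← h, inv_mul_cancel_left]
  set C := (A⁻¹ * B).1
  have e : ∀ i j k l, swapMat K (i, j) (k, l) = C i k * C j l ^ p ^ f := fun i j k l => by
    have := congrFun (congrFun (congrArg (fun u : GL (Fin 2 × Fin 2) K =>
      (u : Matrix (Fin 2 × Fin 2) (Fin 2 × Fin 2) K)) h') (i, j)) (k, l)
    refine this.trans ?_
    show frobTwist K p 0 C i k * frobTwist K p f C j l = _
    simp [frobTwist_apply]
  have h00 := e 0 0 0 0
  have h01 := e 0 1 1 0
  have hmid := e 0 0 0 1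
  simp [swapMat, Matrix.one_apply] at h00 h01 hmid
  have hC00 : C 0 0 ≠ 0 := fun h0 => by simp [h0] at h00
  have hC01 : C 0 1 ≠ 0 := fun h0 => by simp [h0] at h01
  rcases hmid with h0 | h0
  · exact hC00 h0
  · exact hC01 h0.1

/-- `q` odd, `p ≥ 5`. -/
theorem witness_large (L : Type*) [Field L] [Algebra K L] [IsAlgClosed L] [CharP L p] (hp5 : 3 < p) (hK : Fintype.card K = (p ^ f) ^ 2) (hf : 1 ≤ f) (N : ℕ) :
    ∃ (H : Type) (_ : Group H) (_ : Fintype H), N < Fintype.card H ∧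
      Set.range (orderOf : H → ℕ) = divSet (bnd p (p ^ f)) := by
  have hp : p.Prime := Fact.out
  let ρ := rep2 K L p f
  set q := p ^ f with hqdef
  have ho : Odd q := (hp.odd_of_ne_two (by omega)).pow
  have h1 : 1 ≤ q := Nat.one_le_pow _ _ hp.pos
  have hq3 : 3 < q := hp5.trans_le (Nat.le_self_pow (by omega) p)
  have hunip : ∀ n, n * n = 0 → psum (ρ.φ (1 + n)) p = 0 := fun n hn => by
    rw [psum_prime (K := K) p]
    exact pow_eq_zero_of_le (by omega) (rep2_unip (L := L) p hn)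
  refine exists_large_spectrum p (extGroup p L hK) (bnd p q) ?_ ?_ N
  · rintro _ ⟨A, rfl | rfl⟩
    · exact good_of_rep p ρ hK (fun x hx _ h => rep2_fix p x hx h) (fun _ => hunip) A.1 A.2
    set g := repHom ρ A * swapUnit K
    set Nm := A * sigmaSL p A f
    have hg2 : (g : Matrix (Fin 2 × Fin 2) (Fin 2 × Fin 2) K) ^ 2 = ρ.φ Nm.1 := by
      rw [← Units.val_pow_eq_pow_val, ext_sq p hK, repHom_val]
    rcases sl2_dichotomy L Nm.1 Nm.2 with ⟨n, hn, hAn⟩ | ⟨x, P, hx, -, ht, hP, hAP⟩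
    · have hφ : ρ.φ Nm.1 = ρ.φ (1 + n) := by rcases hAn with h | h <;> rw [h]; exact ρ.neg _
      have hp1 : ρ.φ Nm.1 ^ p = 1 := by rw [hφ, ← map_pow, pow_unip p hn, map_one]
      obtain ⟨c, hc⟩ := (ho.add_odd odd_one).two_dvd
      have hp2 : (g : Matrix (Fin 2 × Fin 2) (Fin 2 × Fin 2) K) ^ (2 * p) = 1 := by
        rw [pow_mul, hg2, hp1]
      refine ⟨p * (q + 1), mem_bnd.2 (by simp), ?_, ?_⟩
      · rw [hc, show p * (2 * c) = 2 * p * c by ring, pow_mul, hp2, one_pow]
      · show psum _ _ = 0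
        rw [hc, show p * (2 * c) = 2 * p * c by ring, psum_mul hp2, psum_two_mul, hg2, hφ, hunip n hn,
          mul_zero, smul_zero]
    · have key : ∀ n, n ∣ n → 2 ∣ n → x ^ n = 1 → p * n ∈ bnd p q → Good (bnd p q)
          (g : Matrix (Fin 2 × Fin 2) (Fin 2 × Fin 2) K) := by
        intro n _ h2 hxn hb
        obtain ⟨c, rfl⟩ := h2
        have := ρ.pow_eq_one hP hAP (n := c) (by rw [← pow_mul, mul_comm, hxn])
        exact ⟨_, hb, psum_char p (by rw [pow_mul, hg2, this])⟩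
      rcases torus_cases p hx ht (trace_fixed p hK A) with h | h
      · exact key _ dvd_rfl (Nat.Odd.sub_odd ho odd_one).two_dvd h (mem_bnd.2 (by simp))
      · exact key _ dvd_rfl (ho.add_odd odd_one).two_dvd h (mem_bnd.2 (by simp))
  refine low_tori p ρ hK hf _ (fun g hg => by obtain ⟨A, rfl⟩ := hg; exact ⟨A, Or.inl rfl⟩)
    (fun n hn => ?_) fun h => absurd h (by omega)
  obtain ⟨z, hz, hzo⟩ := exists_units_order (K := K) (Fintype.card K - 1) dvd_rfl
  rw [hK] at hzo
  have eQ : q ^ 2 - 1 = (q + 1) * (q - 1) := by simpa using Nat.sq_sub_sq q 1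
  have hzq : z ^ q ≠ 0 := pow_ne_zero _ hz
  have hzz : (z ^ q) ^ q = z := by rw [← pow_mul, ← sq, ← hK, FiniteField.pow_card]
  -- the element, its square and an orbit of length two
  obtain ⟨A, μ, i₀, j₀, hij, c, c', hcc, hμ, hsq, hdvd, hcol, hcol'⟩ :
      ∃ (A : SpecialLinearGroup (Fin 2) K) (μ : K) (i₀ j₀ : Fin 2 × Fin 2) (_ : i₀ ≠ j₀) (c c' : K)
        (_ : c * c' = 1) (_ : μ ≠ 0) (_ : (A * sigmaSL p A f).1 = dmat μ)
        (_ : ∀ o, Even o → μ ^ o = 1 → n ∣ o),
        (∀ i, ρ.φ A.1 i i₀.swap = if i = j₀ then c else 0) ∧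
        ∀ i, ρ.φ A.1 i j₀.swap = if i = i₀ then c' else 0 := by
    rcases hn with rfl | rfl
    · have hd : (!![0, z; -z⁻¹, 0] : Matrix (Fin 2) (Fin 2) K).det = 1 := by
        simp [Matrix.det_fin_two, hz]
      refine ⟨⟨_, hd⟩, -(z / z ^ q), (0, 0), (1, 1), by simp, (z * z ^ q)⁻¹, z * z ^ q, ?_, ?_, ?_, ?_,
        ?_, ?_⟩
      · field_simp
      · simp [hz]
      · show (!![0, z; -z⁻¹, 0] : Matrix (Fin 2) (Fin 2) K) *
          (!![0, z; -z⁻¹, 0] : Matrix (Fin 2) (Fin 2) K).map (iterateFrobenius K p f) = dmat _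
        ext i j
        fin_cases i <;> fin_cases j <;>
          simp [Matrix.mul_apply, Fin.sum_univ_two, dmat, iterateFrobenius_def, ← hqdef, ho.neg_pow,
            zero_pow (show q ≠ 0 by omega)] <;> field_simp
      · intro o ⟨o', ho'⟩ hμ
        rw [Even.neg_pow ⟨o', ho'⟩, div_pow, div_eq_one_iff_eq (pow_ne_zero _ hzq)] at hμ
        have hz1 : z ^ ((q - 1) * o) = 1 := by
          refine mul_right_cancel₀ (pow_ne_zero o hz) ?_
          rw [← pow_add, show (q - 1) * o + o = q * o by rw [← Nat.succ_mul]; congr 1; omega, pow_mul,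
            ← hμ, one_mul]
        have := orderOf_dvd_of_pow_eq_one hz1
        rw [hzo, eQ, mul_comm (q + 1)] at this
        exact Nat.dvd_of_mul_dvd_mul_left (by omega) this
      all_goals
        rintro ⟨i, j⟩
        show frobTwist K p 0 _ i _ * frobTwist K p f _ j _ = _
        fin_cases i <;> fin_cases j <;>
          simp [frobTwist_apply, ← hqdef, ho.neg_pow, zero_pow (show q ≠ 0 by omega), mul_comm]
    · refine ⟨dSL z hz, z * z ^ q, (0, 1), (1, 0), by simp, z ^ q / z, z / z ^ q, ?_, ?_, ?_, ?_, ?_, ?_⟩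
      · field_simp
      · exact mul_ne_zero hz hzq
      · show dmat z * (dmat z).map (iterateFrobenius K p f) = dmat _
        ext i j
        fin_cases i <;> fin_cases j <;>
          simp [Matrix.mul_apply, Fin.sum_univ_two, dmat, iterateFrobenius_def, ← hqdef,
            zero_pow (show q ≠ 0 by omega)] <;> field_simp
      · intro o _ hμ
        rw [← pow_succ', ← pow_mul] at hμ
        have := orderOf_dvd_of_pow_eq_one hμ
        rw [hzo, eQ] at this
        exact Nat.dvd_of_mul_dvd_mul_left (by omega) this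
      all_goals
        rintro ⟨i, j⟩
        show frobTwist K p 0 (dmat z) i _ * frobTwist K p f (dmat z) j _ = _
        rw [frobTwist_dmat, frobTwist_dmat]
        fin_cases i <;> fin_cases j <;>
          simp [dmat, ← hqdef, zero_pow (show q ≠ 0 by omega), div_eq_mul_inv, mul_comm]
  set g := repHom ρ A * swapUnit K with hg
  set a := (g : Matrix (Fin 2 × Fin 2) (Fin 2 × Fin 2) K) with ha
  have hact : ∀ i j, a i j = ρ.φ A.1 i j.swap := fun i j => by
    rw [ha, hg, Units.val_mul, repHom_val]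
    show (ρ.φ A.1 * swapMat K) i j = _
    rw [mul_swapMat]; rfl
  have he : a *ᵥ Pi.single i₀ 1 = c • Pi.single j₀ 1 := by
    funext i
    rw [Matrix.mulVec_single_one, Matrix.col_apply, hact, hcol]
    simp [Pi.single_apply]
  have he' : a *ᵥ Pi.single j₀ 1 = c' • Pi.single i₀ 1 := by
    funext i
    rw [Matrix.mulVec_single_one, Matrix.col_apply, hact, hcol']
    simp [Pi.single_apply]
  set v : Fin 2 × Fin 2 → K := Pi.single i₀ 1 + c • Pi.single j₀ 1 with hv
  have hfix : a *ᵥ v = v := by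
    rw [hv, mulVec_add, mulVec_smul, he, he', smul_smul, hcc, one_smul, add_comm]
  have hg2 : a ^ 2 = ρ.φ (dmat μ) := by
    rw [ha, ← Units.val_pow_eq_pow_val, hg, ext_sq p hK, repHom_val, hsq]
  set o := orderOf g with hodef
  have hoe : Even o := by
    by_contra hodd
    rw [Nat.not_even_iff_odd] at hodd
    obtain ⟨j, hj⟩ := hodd
    refine coset_ne (L := L) p hK A ((A * sigmaSL p A f) ^ (j + 1)) ?_
    rw [map_pow, ← ext_sq p hK, ← pow_mul, show 2 * (j + 1) = o + 1 by omega, pow_succ, hodef,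
      pow_orderOf_eq_one, one_mul]
  have hAP : (dmat μ).map (algebraMap K L) * (1 : Matrix (Fin 2) (Fin 2) L) =
      1 * dmat (algebraMap K L μ) := by rw [mul_one, one_mul]; exact dmat_map μ
  have hno : n ∣ o := by
    obtain ⟨j, hj⟩ := hoe
    refine hdvd o ⟨j, hj⟩ ?_
    have h2 : ρ.φ (dmat μ) ^ j = 1 := by
      rw [← hg2, ← pow_mul, show 2 * j = o by omega, ha, ← Units.val_pow_eq_pow_val, hodef,
        pow_orderOf_eq_one, Units.val_one]
    have h3 := ρ.sq_eq_one_of_pow (by simpa using hμ) isUnit_one hAP h2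
    rw [← pow_mul, ← map_pow, map_eq_one_iff _ (algebraMap K L).injective] at h3
    rwa [show o = j * 2 by omega]
  refine ⟨g, ⟨A, Or.inr rfl⟩, Nat.mul_dvd_mul_left p hno, fun h => ?_⟩
  have hpw : ∀ k : ℕ, (a ^ k) *ᵥ v = v := fun k => by
    induction k with
    | zero => simp
    | succ k ih => rw [pow_succ, ← mulVec_mulVec, hfix, ih]
  have hcast : (o : K) ≠ 0 := by
    intro h0
    rw [CharP.cast_eq_zero_iff K p] at h0
    -- `g ^ 2` is semisimple, so `o` is prime to `p`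
    obtain ⟨j, hj⟩ := hoe
    have hoQ : o ∣ 2 * (q ^ 2 - 1) := by
      refine orderOf_dvd_of_pow_eq_one ?_
      rw [pow_mul]
      refine Units.ext ?_
      rw [Units.val_pow_eq_pow_val, Units.val_pow_eq_pow_val, Units.val_one]
      show (a ^ 2) ^ _ = 1
      rw [hg2]
      refine ρ.pow_eq_one isUnit_one hAP ?_
      rw [← map_pow, ← hK, FiniteField.pow_card_sub_one_eq_one μ hμ, map_one, one_pow]
    rcases hp.dvd_mul.1 (h0.trans hoQ) with h' | h'
    · have := Nat.le_of_dvd two_pos h'; omega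
    · have hpQ : p ∣ q ^ 2 := dvd_pow (dvd_pow_self p (by omega)) two_ne_zero
      have h'' := Nat.dvd_sub hpQ h'
      rw [Nat.sub_sub_self (Nat.one_le_pow _ _ h1)] at h''
      exact hp.one_lt.ne' (Nat.dvd_one.1 h'')
  have h' : (psum a o) *ᵥ v = 0 := by
    have : psum a o = 0 := h
    rw [this, zero_mulVec]
  rw [psum, Matrix.sum_mulVec, Finset.sum_congr rfl (fun k _ => hpw k), Finset.sum_const, Finset.card_range] at h'
  have h'' := congrFun h' i₀
  simp [hv, Pi.single_apply, hij] at h''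
  exact hcast h''

end Cfsg.Agent.H69.Psp4
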